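import Cfsg.Agent.TZ.Exc2
import Cfsg.Agent.H37.WEn
import Cfsg.Agent.S1108

set_option autoImplicit false

namespace Cfsg.Agent.TZ

open Cfsg

namespace Ex

open Cfsg.Lie Cfsg.Lie.ChevalleyDatum H37 H38 H39 H40 Finset Chev

variable {D : ChevalleyDatum} [Chev D] (hD : IsChev D) {F : Type} [Field F] [Fintype F] {p : ℕ} [Fact p.Prime]
  [CharP F p] (hp : Odd p)

theorem exists_model : ∃ (Φ : (scCov hD (AlgebraicClosure F)).Frob) (μ : Φ.Model (D.SteinbergGroup F)) (n : ℕ), n ≠ 0 ∧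
    (∀ r, Φ.e r = p ^ n) ∧ Φ.τ = 1 ∧ ∀ z, stProj hD F z = 1 ↔ (scCov hD _).θ (μ.ι z) = 1 := by
  obtain ⟨ι, hι⟩ := (scCov hD (AlgebraicClosure F)).exists_stMap (algebraMap F _)
  obtain ⟨n, hn, h⟩ := exists_card_eq_pow F p
  obtain ⟨φ, hφ⟩ := scCov_hasField hD _ (iterateFrobenius (AlgebraicClosure F) p n)
  have hf := frob_fix_iff (algebraMap F (AlgebraicClosure F)) hn h
  refine ⟨Cov.ofField p hn hφ, ⟨ι, (sc_all hD).smap_injective hι, fun g => ⟨(sc_all hD).exists_smap hι hf hφ, ?_⟩⟩, n, hn,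
    fun _ => rfl, rfl, fun z => ?_⟩
  · rintro ⟨x, rfl⟩; exact Cov.fix_smap hι hf hφ x
  · rw [Cov.θ_smap hι, Subtype.ext_iff]
    exact (map_eq_one_iff _ (H64.glMap_injective F (D := D) (algebraMap F _))).symm

include hp

include hD in
theorem kf_chev {θ v C U d} (h : alcOK D id θ v C U d false = true) {m : ℕ} (hm : Odd m) (hd : H64.HasInv D m) :
    KF (D.group F) := by
  obtain ⟨Φ, μ, n, hn, h1, h2, h3⟩ := exists_model hD (F := F) (p := p)
  exact kf_model μ (sc_all hD) (scCov_hasField hD _) p (algClosure_alg F p) hp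
    (fun r => h1 r ▸ Nat.one_lt_pow hn (Fact.out : p.Prime).one_lt) (fun r => by rw [h2]; rfl) h (by simp) _
    (stProj_surjective hD) hm hd fun z => (h3 z).1

omit hp in
theorem tab_E7 : ∀ j < chevE7.rank, ∀ r < chevE7.nroots,
    (∀ i < chevE7.rank, (chevE7.cartan i r - chevE7.cartan i (chevE7.simple j)) % 4 = 0) → r = chevE7.simple j := by
  have : ((List.range chevE7.rank).all fun j => (List.range chevE7.nroots).all fun r => r == chevE7.simple j ||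
    (List.range chevE7.rank).any fun i => (chevE7.cartan i r - chevE7.cartan i (chevE7.simple j)) % 4 != 0) = true := by
    decide +kernel
  simp only [List.all_eq_true, List.mem_range, Bool.or_eq_true, beq_iff_eq, List.any_eq_true, bne_iff_ne] at this
  exact fun j hj r hr h => (this j hj r hr).resolve_right fun ⟨i, hi, e⟩ => e (h i hi)

omit hp in
theorem exists_neg_E7 [Chev chevE7] : ∃ w ∈ (rs chevE7).W, ∀ j, w ((rs _).sp j) = (rs _).neg ((rs _).sp j) := by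
  have : ∀ l : List ℕ, (∀ r ∈ l, r < chevE7.nroots) → ∃ w ∈ (rs chevE7).W, ∀ r : Fin chevE7.nroots,
      (w r : ℕ) = l.foldr (refl chevE7) r := fun l hl => by
    induction l with
    | nil => exact ⟨1, one_mem _, fun _ => rfl⟩
    | cons i l ih =>
      obtain ⟨w, hw, h⟩ := ih fun j hj => hl j (by simp [hj])
      exact ⟨reflPerm _ ⟨i, hl i (by simp)⟩ * w, mul_mem (reflPerm_mem _) hw, fun r => congrArg (refl chevE7 i) (h r)⟩
  obtain ⟨w, hw, e⟩ := this [63, 66, 73, 78, 87, 92, 125] (by decide +kernel)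
  exact ⟨w, hw, fun j => Fin.ext (by rw [e, rs_neg_val, rs_sp_val]; revert j; decide +kernel)⟩

omit hp in
theorem tab_E7' : ∀ i ∈ [1, 4, 6], ∀ j ∈ [1, 4, 6], i ≠ j → chevE7.cartan i (chevE7.simple j) = 0 ∧
    ∀ r < chevE7.nroots, chevE7.cartan i r % 2 = 0 → chevE7.cartan j r % 2 = 0 →
      chevE7.cartan i r = 0 ∨ chevE7.cartan j r = 0 := by decide +kernel

omit hp in
theorem tab_E7'' : ∀ j ∈ [1, 4, 6], ∃ l < chevE7.rank, chevE7.cartan j (chevE7.simple l) = -1 := by decide +kernel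

theorem kf_E7 : KF (chevE7.group F) := by
  have hD : IsChev chevE7 := by simp [IsChev]
  obtain ⟨_⟩ := nonempty_chev hD
  obtain ⟨Φ, μ, n, hn, h1, h2, h3⟩ := exists_model hD (F := F) (p := p)
  have h4 : 2 ≤ p ^ n := Nat.one_lt_pow hn (Fact.out : p.Prime).one_lt
  have h5 : (2 : AlgebraicClosure F) ≠ 0 := fun e => hp.not_two_dvd_nat ((Nat.prime_dvd_prime_iff_eq Fact.out
    Nat.prime_two).1 ((CharP.cast_eq_zero_iff (AlgebraicClosure F) p 2).1 (by exact_mod_cast e)) ▸ dvd_rfl)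
  have h6 : ∀ (c : Fin chevE7.rank → (AlgebraicClosure F)ˣ) (a : ℤ), c ^ 4 = 1 → a % 4 = 1 → c ^ a = c := fun c a hc ha => by
    rw [← Int.emod_add_mul_ediv a 4, ha, zpow_add, zpow_mul, zpow_ofNat c 4, hc]; simp
  obtain ⟨Φ', μ', g, a1, a2, a3⟩ : ∃ (Φ' : (scCov hD (AlgebraicClosure F)).Frob) (μ' : Φ'.Model _) (g : _),
      (∀ x, μ'.ι x = g⁻¹ * μ.ι x * g) ∧ (∀ c : Fin chevE7.rank → (AlgebraicClosure F)ˣ, c ^ 4 = 1 → zact Φ'.M c = c) ∧
      ∀ j, Φ'.τ ((rs _).sp j) = (rs _).sp j ∧ 2 ≤ Φ'.e ((rs _).sp j) ∨ Φ'.τ ((rs _).sp j) = (rs _).neg ((rs _).sp j) := by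
    have := Nat.odd_iff.1 (hp.pow (n := n))
    by_cases h : p ^ n % 4 = 1
    · exact ⟨Φ, μ, 1, by simp, fun c hc => by
        rw [Φ.M_eq h1, h2, wM_one, zact_smul, zact_one, h6 c _ hc (by exact_mod_cast h)],
        fun j => .inl ⟨by rw [h2]; rfl, h1 _ ▸ h4⟩⟩
    obtain ⟨w, hw, e⟩ := exists_neg_E7
    obtain ⟨n, hn⟩ := (scCov hD (AlgebraicClosure F)).X.exists_rep hw
    obtain ⟨g, hg⟩ := Φ.lang n
    refine ⟨_, μ.twist hn hg, g, μ.twist_ι hn hg, fun c hc => ?_, fun j => .inr (by rw [Φ.twist_τ, h2, mul_one, e])⟩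
    rw [Φ.twist_M, Φ.M_eq h1, h2, wM_one, show wM w = (-1 : ℤ) • 1 from Matrix.ext fun i j => by
      rw [wM, e, cv, rs_neg_val, rs_sp_val]; revert i j; decide +kernel, smul_mul_smul_comm, one_mul, zact_smul, zact_one,
      h6 c _ hc (by omega)]
  obtain ⟨P, hP, h⟩ := exists_P μ' h5 (J := [1, 4, 6]) (B := [[4, 4, 6, 8, 6, 4, 2], [4, 7, 8, 12, 9, 6, 3],
    [6, 8, 12, 16, 12, 8, 4], [8, 12, 16, 24, 18, 12, 6], [6, 9, 12, 18, 15, 10, 5], [4, 6, 8, 12, 10, 8, 4],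
    [2, 3, 4, 6, 5, 4, 3]]) (sc_all hD) (fun c hc => by convert a2 c hc) a3 tab_E7 tab_E7'' tab_E7' (by decide +kernel)
  have h7 : ∀ z, stProj hD F z = 1 → (scCov hD _).θ (μ'.ι z) = 1 := fun z hz => by
    rw [a1, map_mul, map_mul, (h3 z).1 hz, mul_one, ← map_mul, inv_mul_cancel, map_one]
  refine kf_of_surj _ (stProj_surjective hD) P hP fun w hw hc => map_mem _
    (mem_sq μ (sc_all hD) (scCov_hasField hD _) p (algClosure_alg F p) hp (fun r => h1 r ▸ h4) (τ := id) (θ := 125)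
      (v := [2, 2, 3, 4, 3, 2, 1]) (C := [([2, 2, 3, 4, 3, 2, 1], [125]), ([2, 3, 4, 6, 5, 4, 2], [66, 78]),
        ([2, 3, 4, 6, 5, 4, 3], [63, 66, 78]), ([], [])]) (U := [[0, 1, 0, 0, 1, 0, 1]]) (d := 2) (z := false)
      (fun r => by rw [h2]; rfl) (by decide +kernel) (by simp)
      (h w (h7 _ (by rw [map_pow, ← hw, pow_orderOf_eq_one])) fun y hy => ?_))
  rw [← mul_inv_eq_one, ← map_inv, ← map_mul, ← map_inv, ← map_mul]
  exact h7 _ (by rw [map_mul, map_inv, map_mul, map_mul, (hc y hy).eq, mul_inv_cancel])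

theorem kf_2E6 {q : ℕ} (hq : IsPrimePow q) (hK : Fintype.card F = q ^ 2) : KF (twistedE6 F q) := by
  obtain ⟨Φ, G, μ, π, h1, h2, h3, h4⟩ := exists_model_2E6 hq hK
  exact kf_model μ (sc_all _) (scCov_hasField _ _) p (algClosure_alg F p) hp (fun r => h4 r ▸ hq.two_le) h3
    (θ := 71) (v := [1, 2, 2, 3, 2, 1]) (C := [([2, 2, 3, 4, 3, 2], [39, 44]), ([1, 2, 2, 3, 2, 1], [71]), ([], [])])
    (U := [[1, 0, 2, 0, 1, 2]]) (d := 3) (z := false) (by decide +kernel) (by simp) π h1 (by decide) H64.hasInv_E6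
    fun z => (h2 z).1

theorem kf_3D4 {q : ℕ} (hq : IsPrimePow q) (hK : Fintype.card F = q ^ 3) : KF (twistedD4 F q) := by
  obtain ⟨Φ, μ, h3, h4⟩ := exists_model_3D4 hq hK
  exact kf_of_all fun x hx => mem_sq μ (sc_all _) (scCov_hasField _ _) p (algClosure_alg F p) hp
    (fun r => h4 r ▸ hq.two_le) h3 (θ := 23) (v := [1, 2, 1, 1]) (C := [([1, 2, 1, 1], [23])])
    (U := [[1, 0, 1, 0], [1, 0, 0, 1]]) (d := 2) (z := true) (by decide +kernel) (fun _ => S1108.result hq hK)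
    (by rw [← hx, pow_orderOf_eq_one])

end Ex

open Ex H37 H40 Cfsg.Lie in
theorem kf_exc {p : ℕ} (hp : p.Prime) (h2 : p ≠ 2) {G : Type*} [Group G] [Finite G]
    (h : IsExceptionalChevChar p G ∨ IsTwistedE6D4Char p G) : KF G := by
  have : Fact p.Prime := ⟨hp⟩
  have hp' : Odd p := hp.odd_of_ne_two h2
  rcases h with ⟨F, _, _, _, ⟨-, ⟨e⟩⟩ | ⟨⟨e⟩⟩ | ⟨⟨e⟩⟩ | ⟨⟨e⟩⟩ | ⟨⟨e⟩⟩⟩ | ⟨F, _, _, _, q, hq, ⟨h, ⟨e⟩⟩ | ⟨h, ⟨e⟩⟩⟩
  · exact (kf_chev isChev_G2 hp' (θ := 11) (v := [3, 2]) (C := [([1, 2], [7]), ([], [])]) (U := []) (d := 1)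
      (by decide +kernel) odd_one H64.hasInv_G2).congr e
  · exact (kf_chev isChev_F4 hp' (θ := 47) (v := [2, 4, 3, 2]) (C := [([2, 3, 4, 2], [27]), ([1, 2, 3, 2], [47]),
      ([], [])]) (U := []) (d := 1) (by decide +kernel) odd_one H64.hasInv_F4).congr e
  · exact (kf_chev isChev_E6 hp' (θ := 71) (v := [1, 2, 2, 3, 2, 1]) (C := [([2, 2, 3, 4, 3, 2], [39, 44]),
      ([1, 2, 2, 3, 2, 1], [71]), ([], [])]) (U := [[1, 0, 2, 0, 1, 2]]) (d := 3) (by decide +kernel) (by decide)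
      H64.hasInv_E6).congr e
  · exact (kf_E7 hp').congr e
  · have h : IsChev chevE8 := by simp [IsChev]
    obtain ⟨_⟩ := nonempty_chev h
    exact (kf_chev h hp' (θ := 239) (v := [2, 3, 4, 6, 5, 4, 3, 2]) (C := [([4, 5, 7, 10, 8, 6, 4, 2], [120, 161]),
      ([2, 3, 4, 6, 5, 4, 3, 2], [239]), ([], [])]) (U := []) (d := 1) (by decide +kernel) odd_one
      H64.hasInv_E8).congr e
  · exact (kf_2E6 hp' hq h).congr e
  · exact (kf_3D4 hp' hq h).congr e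

end Cfsg.Agent.TZ
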