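import Cfsg.Agent.INVK.Cl2

/-! Orthogonal groups, `q` odd: an involution centralising two sign changes is a product of squares
of its centraliser. -/

set_option autoImplicit false
set_option linter.unusedSectionVars false

namespace Cfsg.Agent.TZ.Om

open Cfsg Subgroup H28 QuadraticMap Module

variable {F : Type*} [Field F] [Finite F] {ι : Type} [Fintype ι] [DecidableEq ι]
  {Q : QuadraticForm F (ι → F)}

theorem refl_comm {g : O Q} {a : ι → F} (h : rho Q g a = a ∨ rho Q g a = -a) :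
    g * refl Q a = refl Q a * g := by
  have := refl_conj g a
  rcases h with h | h <;> rw [h] at this
  · exact mul_inv_eq_iff_eq_mul.1 this
  · rw [refl_neg] at this; exact mul_inv_eq_iff_eq_mul.1 this

theorem refl_comm' {a b : ι → F} (h : polar Q a b = 0) : refl Q a * refl Q b = refl Q b * refl Q a :=
  refl_comm (.inl (rho_refl_of_orth h))

theorem eq_zero_of_neg (h2 : (2 : F) ≠ 0) {x : F} (h : x = -x) : x = 0 :=
  (mul_eq_zero.1 (by linear_combination h : 2 * x = 0)).resolve_left h2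

/-- eigenspace of an isometry -/
def Eig (T : O Q) (c : F) : Submodule F (ι → F) := LinearMap.ker (rho Q T - c • LinearMap.id)

theorem mem_Eig {T : O Q} {c : F} {x : ι → F} : x ∈ Eig T c ↔ rho Q T x = c • x := by
  simp [Eig, sub_eq_zero]

/-- `g` is minus one on `U` and one on its perp -/
def Neg (g : O Q) (U : Submodule F (ι → F)) : Prop :=
  (∀ x ∈ U, rho Q g x = -x) ∧ ∀ x, (∀ u ∈ U, polar Q u x = 0) → rho Q g x = x

theorem Neg.eq_one {g : O Q} (h : Neg g ⊥) : g = 1 :=
  O_ext fun v => (h.2 v fun u hu => by rw [(Submodule.mem_bot _).1 hu]; simp).trans (rho_one v).symm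

theorem Neg.peel (h2 : (2 : F) ≠ 0) {g : O Q} {U : Submodule F (ι → F)} (h : Neg g U) {e : ι → F}
    (he : e ∈ U) (h0 : Q e ≠ 0) : Neg (g * refl Q e) (U ⊓ LinearMap.ker (polarBilin Q e)) := by
  refine ⟨fun x hx => ?_, fun x hx => ?_⟩
  · rw [rho_mul, rho_refl_of_orth (by simpa using hx.2), h.1 x hx.1]
  have h3 : polar Q e (x - (polar Q e x / (2 * Q e)) • e) = 0 := by
    rw [polar_sub_right, B_smul_right, B_self]; field_simp; ring
  have h4 := h.2 (x - (polar Q e x / (2 * Q e)) • e) fun u hu => by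
    have h5 := hx (u - (polar Q e u / (2 * Q e)) • e) ⟨U.sub_mem hu (U.smul_mem _ he), by
      simp only [SetLike.mem_coe, LinearMap.mem_ker, polarBilin_apply_apply, polar_sub_right,
        B_smul_right, B_self]
      field_simp; ring⟩
    rw [polar_sub_left, B_smul_left] at h5
    rw [polar_sub_right, B_smul_right, polar_comm Q u e]
    linear_combination h5
  have h6 : x = (x - (polar Q e x / (2 * Q e)) • e) + (polar Q e x / (2 * Q e)) • e := by simp
  generalize x - (polar Q e x / (2 * Q e)) • e = y at h3 h4 h6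
  rw [h6, map_add, map_smul, rho_mul, rho_mul, rho_refl_of_orth h3, h4, rho_refl_self h0, map_neg,
    h.1 e he, neg_neg]

variable (hQ : (polarBilin Q).Nondegenerate) (h2 : (2 : F) ≠ 0)
include hQ h2

theorem refl_mul_mem {a b : ι → F} (ha : Q a ≠ 0) (h : Q a = Q b) :
    refl Q a * refl Q b ∈ Omega F ⇑Q := by
  rw [mem_omega_iff hQ (eichOK_of_two_ne_zero h2), map_mul, map_mul, dickson_refl _ _ ha,
    dickson_refl _ _ (h ▸ ha), spinor_refl _ _ ha, spinor_refl _ _ (h ▸ ha), h]
  exact ⟨rfl, Int.units_mul_self _⟩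

variable {T : O Q} (hT : T * T = 1)
include hT

omit hQ h2 in
theorem TT (x : ι → F) : rho Q T (rho Q T x) = x := by rw [← rho_mul, hT, rho_one]

omit hQ h2 in
theorem B_T (x y : ι → F) : polar Q (rho Q T x) y = polar Q x (rho Q T y) := by
  rw [← B_rho T, TT hT]

theorem nondeg_Eig {c : F} (hc : c * c = 1) : NondegOn Q (Eig T c) := fun x hx h =>
  eq_zero_of_polar hQ fun y => by
    have h3 := h (y + c • rho Q T y) (mem_Eig.2 (by
      rw [map_add, map_smul, TT hT, smul_add, smul_smul, hc, one_smul, add_comm]))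
    rw [polar_add_right, B_smul_right, ← B_T hT, mem_Eig.1 hx, B_smul_left, ← mul_assoc, hc] at h3
    exact eq_zero_of_neg h2 (by linear_combination h3)

theorem neg_Eig : Neg T (Eig T (-1)) := by
  refine ⟨fun x hx => by rw [mem_Eig.1 hx, neg_one_smul], fun x hx => sub_eq_zero.1
    (eq_zero_of_polar hQ fun w => ?_)⟩
  have := hx (rho Q T w - w) (mem_Eig.2 (by rw [map_sub, TT hT]; simp))
  rw [polar_sub_left, B_T hT] at this
  rw [polar_sub_left, polar_comm Q _ w, polar_comm Q _ w, this]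

omit hQ in
theorem rank_Eig : Fintype.card ι ≤ finrank F (Eig T 1) + finrank F (Eig T (-1)) := by
  have h1 : Eig T 1 ⊔ Eig T (-1) = ⊤ := eq_top_iff.2 fun x _ => by
    have : x = (2 : F)⁻¹ • (x + rho Q T x) + (2 : F)⁻¹ • (x - rho Q T x) := by
      rw [← smul_add, add_add_sub_cancel, ← two_smul F, smul_smul, inv_mul_cancel₀ h2, one_smul]
    rw [this]
    exact Submodule.add_mem_sup (Submodule.smul_mem _ _ (mem_Eig.2 (by
      rw [map_add, TT hT, one_smul, add_comm]))) (Submodule.smul_mem _ _ (mem_Eig.2 (by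
      rw [map_sub, TT hT]; simp)))
  have := Submodule.finrank_add_le_finrank_add_finrank (Eig T 1) (Eig T (-1))
  rwa [h1, finrank_top, finrank_fintype_fun_eq_card] at this

theorem exists_sq (h7 : 7 ≤ Fintype.card ι) {e f : ι → F} (he : e ∈ Eig T (-1)) (hf : f ∈ Eig T (-1))
    (h0 : Q e ≠ 0) (hef : Q e = Q f) (ho : polar Q e f = 0) :
    ∃ x ∈ Omega F ⇑Q, T * x = x * T ∧ x * x = refl Q e * refl Q f := by
  obtain ⟨W, w1, w2, w3⟩ : ∃ W : Submodule F (ι → F), NondegOn Q W ∧ 3 ≤ finrank F W ∧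
      ∀ x ∈ W, polar Q e x = 0 ∧ polar Q f x = 0 ∧ (rho Q T x = x ∨ rho Q T x = -x) := by
    have h3 := rank_Eig h2 hT
    by_cases h : 3 ≤ finrank F (Eig T 1)
    · have key : ∀ u ∈ Eig T (-1), ∀ x ∈ Eig T 1, polar Q u x = 0 := fun u hu x hx => by
        have := B_rho T u x
        rw [mem_Eig.1 hu, mem_Eig.1 hx, B_smul_left, B_smul_right] at this
        exact eq_zero_of_neg h2 (by linear_combination -this)
      exact ⟨_, nondeg_Eig hQ h2 hT (mul_one 1), h, fun x hx =>
        ⟨key e he x hx, key f hf x hx, .inl (by rw [mem_Eig.1 hx, one_smul])⟩⟩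
    have a1 := finrank_le_inf_ker (Eig T (-1)) (polarBilin Q e)
    have a2 := finrank_le_inf_ker (Eig T (-1) ⊓ LinearMap.ker (polarBilin Q e)) (polarBilin Q f)
    exact ⟨_, ((nondeg_Eig hQ h2 hT (c := -1) (by simp)).inf_ker h2 he h0).inf_ker h2
      ⟨hf, by simpa using ho⟩ (hef ▸ h0), by omega, fun x hx => ⟨by simpa using hx.1.2,
        by simpa using hx.2, .inr (by rw [mem_Eig.1 hx.1.1, neg_one_smul])⟩⟩
  obtain ⟨g, g1, g2⟩ := w1.exists_eq (by omega) (Q e)
  have a1 := finrank_le_inf_ker W (polarBilin Q g)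
  obtain ⟨k, ⟨k1, k2⟩, k3⟩ := (w1.inf_ker h2 g1 (g2 ▸ h0)).exists_eq (by omega) (Q (e + f))
  have k4 : polar Q g k = 0 := by simpa using k2
  have s1 : Q (e + f) = 2 * Q e := by rw [Q_add, ho, ← hef]; ring
  have s2 : Q (e + f) ≠ 0 := s1 ▸ mul_ne_zero h2 h0
  obtain ⟨g3, g4, g5⟩ := w3 g g1
  obtain ⟨k5, k6, k7⟩ := w3 k k1
  have c1 : Commute (refl Q e) (refl Q g) := refl_comm' g3
  have c2 : Commute (refl Q e) (refl Q k) := refl_comm' k5
  have c3 : Commute (refl Q (e + f)) (refl Q g) := refl_comm' (by rw [polar_add_left, g3, g4, add_zero])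
  have c4 : Commute (refl Q (e + f)) (refl Q k) := refl_comm' (by rw [polar_add_left, k5, k6, add_zero])
  have c5 : Commute (refl Q g) (refl Q k) := refl_comm' k4
  have t1 : Commute T (refl Q e) := refl_comm (.inr (by rw [mem_Eig.1 he, neg_one_smul]))
  have t2 : Commute T (refl Q (e + f)) :=
    refl_comm (.inr (by rw [mem_Eig.1 (add_mem he hf), neg_one_smul]))
  have s3 : rho Q (refl Q (e + f)) e = -f := by
    rw [rho_refl, polar_add_left, B_self, polar_comm Q f, ho, add_zero, s1,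
      inv_mul_cancel₀ (s1 ▸ s2), one_smul]; simp
  refine ⟨refl Q e * refl Q (e + f) * (refl Q g * refl Q k), ?_,
    (t1.mul_right t2).mul_right (Commute.mul_right (refl_comm g5) (refl_comm k7)), ?_⟩
  · rw [mul_assoc, ← mul_assoc (refl Q (e + f)), c3.eq, mul_assoc, ← mul_assoc]
    exact mul_mem (refl_mul_mem hQ h2 h0 g2.symm) (refl_mul_mem hQ h2 s2 k3.symm)
  · rw [← pow_two, ((c1.mul_right c2).mul_left (c3.mul_right c4)).mul_pow, c5.mul_pow, pow_two,
      pow_two, pow_two, refl_mul_self, refl_mul_self, mul_one, mul_one, mul_assoc, ← refl_neg f, ← s3,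
      ← refl_conj, refl_inv, mul_assoc]

theorem mem_of_neg (h7 : 7 ≤ Fintype.card ι) (S : Subgroup (O Q))
    (hS : ∀ x ∈ Omega F ⇑Q, T * x = x * T → x * x ∈ S) (n : ℕ) :
    ∀ U : Submodule F (ι → F), finrank F U = n → NondegOn Q U → U ≤ Eig T (-1) →
      ∀ g ∈ Omega F ⇑Q, Neg g U → g ∈ S := by
  induction n using Nat.strong_induction_on with | _ n ih => ?_
  intro U hn hU hle g hg hN
  have ok := eichOK_of_two_ne_zero (Q := Q) h2
  have lt : ∀ (W : Submodule F (ι → F)) (e : ι → F), e ∈ W → Q e ≠ 0 →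
      finrank F ↥(W ⊓ LinearMap.ker (polarBilin Q e)) < finrank F W := fun W e he h0 =>
    Submodule.finrank_lt_finrank_of_lt (lt_of_le_of_ne inf_le_left fun h => by
      have : polar Q e e = 0 := by simpa using (h.ge he).2
      rw [B_self] at this
      exact mul_ne_zero h2 h0 this)
  by_cases hb : U = ⊥
  · rw [Neg.eq_one (hb ▸ hN : Neg g ⊥)]; exact one_mem _
  obtain ⟨e, he, h0⟩ := hU.exists_nonsingular hb
  have N1 := hN.peel h2 he h0
  have U1 := hU.inf_ker h2 he h0
  have l1 := lt U e he h0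
  have m := (mem_omega_iff hQ ok g).1 hg
  obtain ⟨f, hf, hef⟩ : ∃ f ∈ U ⊓ LinearMap.ker (polarBilin Q e), Q f = Q e := by
    by_cases h : 2 ≤ finrank F ↥(U ⊓ LinearMap.ker (polarBilin Q e))
    · exact U1.exists_eq h _
    obtain ⟨f, hf, f0⟩ := U1.exists_nonsingular fun hb => by
      have := congrArg (dickson hQ ok) (Neg.eq_one (hb ▸ N1 : Neg (g * refl Q e) ⊥))
      rw [map_mul, m.1, dickson_refl _ _ h0, map_one] at this
      exact absurd this (by decide)
    have l2 := lt _ f hf f0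
    have N2 := N1.peel h2 hf f0
    rw [Submodule.finrank_eq_zero.1 (by omega : finrank F ↥(U ⊓ LinearMap.ker (polarBilin Q e) ⊓
      LinearMap.ker (polarBilin Q f)) = 0)] at N2
    have := congrArg (spinor hQ ok) N2.eq_one
    rw [map_mul, map_mul, m.2, one_mul, spinor_refl _ _ h0, spinor_refl _ _ f0, map_one,
      ← sqSign_mul h0 f0, sqSign_eq_one, mul_comm] at this
    obtain ⟨t, -, ht⟩ := exists_smul_Q_eq f0 h0 this
    exact ⟨t • f, Submodule.smul_mem _ _ hf, ht⟩
  have f0 : Q f ≠ 0 := hef ▸ h0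
  have l2 := lt _ f hf f0
  obtain ⟨x, x1, x2, x3⟩ := exists_sq hQ h2 hT h7 (hle he) (hle hf.1) h0 hef.symm
    (by simpa using hf.2)
  have := ih _ (by omega) _ rfl (U1.inf_ker h2 hf f0) ((inf_le_left.trans inf_le_left).trans hle) _
    (by rw [mul_assoc]; exact mul_mem hg (refl_mul_mem hQ h2 h0 hef.symm)) (N1.peel h2 hf f0)
  rw [mul_assoc, ← x3] at this
  exact (mul_mem_cancel_right (hS x x1 x2)).1 this

end Cfsg.Agent.TZ.Om
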