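import Cfsg.Agent.TZ.Defs
import Cfsg.Agent.TZ.Om0

set_option autoImplicit false

namespace Cfsg.Agent.TZ

open Cfsg Subgroup H28 QuadraticMap Module

namespace Om

theorem isPGroup_pair {G : Type*} [Group G] {a b : G} (ha : a * a = 1) (hb : b * b = 1)
    (h : Commute a b) : IsPGroup 2 (closure {a, b} : Subgroup G) := fun g => ⟨1, Subtype.ext (by
  have c : ∀ x ∈ closure {a, b}, ∀ y ∈ closure {a, b}, Commute x y := fun x hx y hy =>
    congrArg Subtype.val ((isMulCommutative_closure (k := {a, b}) (by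
      rintro _ (rfl | rfl) _ (rfl | rfl)
      exacts [rfl, h, h.symm, rfl])).is_comm.comm ⟨x, hx⟩ ⟨y, hy⟩)
  obtain ⟨g, hg⟩ := g
  change g ^ 2 ^ 1 = 1
  induction hg using closure_induction with
  | mem x hx => rcases hx with rfl | rfl <;> simpa [pow_two]
  | one => simp
  | mul x y hx hy a b => rw [(c x hx y hy).mul_pow, a, b, one_mul]
  | inv x _ a => rw [inv_pow, a, inv_one])⟩

variable {F : Type*} [Field F] [Finite F] {ι : Type} [Fintype ι] [DecidableEq ι]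
  {Q : QuadraticForm F (ι → F)} (hQ : (polarBilin Q).Nondegenerate) (h2 : (2 : F) ≠ 0)
include hQ h2

theorem scalar (h3 : 3 ≤ Fintype.card ι) {z : Omega F ⇑Q} (hz : z ∈ center (Omega F ⇑Q)) :
    ∃ c : F, ∀ x, rho Q z.1 x = c • x := by
  obtain ⟨c, hc⟩ := (INVK.dt_om hQ h2 h3).scalar hz
  exact ⟨c, fun x => by
    rw [rho_apply, show mat z.1 = c • 1 from hc, Matrix.smul_mulVec, Matrix.one_mulVec]⟩

theorem comm_of (h5 : 5 ≤ Fintype.card ι) {e f : ι → F} {a w : Omega F ⇑Q}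
    (ha : a.1 = refl Q e * refl Q f)
    (h : Commute (QuotientGroup.mk' (center _) a) (QuotientGroup.mk' (center _) w)) :
    w.1 * a.1 = a.1 * w.1 := by
  obtain ⟨c, hc⟩ := scalar hQ h2 (by omega) (z := w * a * w⁻¹ * a⁻¹) ((QuotientGroup.eq_one_iff _).1
    (commutatorElement_eq_one_iff_commute.2 h.symm))
  have a1 := finrank_le_inf_ker ⊤ (polarBilin Q e)
  have a2 := finrank_le_inf_ker (⊤ ⊓ LinearMap.ker (polarBilin Q e)) (polarBilin Q f)
  have a3 := finrank_le_inf_ker (⊤ ⊓ LinearMap.ker (polarBilin Q e) ⊓ LinearMap.ker (polarBilin Q f))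
    (polarBilin Q (rho Q w.1 e))
  have a4 := finrank_le_inf_ker (⊤ ⊓ LinearMap.ker (polarBilin Q e) ⊓ LinearMap.ker (polarBilin Q f) ⊓
    LinearMap.ker (polarBilin Q (rho Q w.1 e))) (polarBilin Q (rho Q w.1 f))
  rw [finrank_top, finrank_fintype_fun_eq_card] at a1
  obtain ⟨x, ⟨⟨⟨⟨-, x1⟩, x2⟩, x3⟩, x4⟩, x0⟩ := Submodule.exists_mem_ne_zero_of_ne_bot
    (p := ⊤ ⊓ LinearMap.ker (polarBilin Q e) ⊓ LinearMap.ker (polarBilin Q f) ⊓
    LinearMap.ker (polarBilin Q (rho Q w.1 e)) ⊓ LinearMap.ker (polarBilin Q (rho Q w.1 f)))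
    fun hb => by rw [hb, finrank_bot] at a4; omega
  have e1 : (w * a * w⁻¹ * a⁻¹).1 = refl Q (rho Q w.1 e) * refl Q (rho Q w.1 f) *
      (refl Q f * refl Q e) := by
    rw [← refl_conj, ← refl_conj, coe_mul, coe_mul, coe_mul, coe_inv, coe_inv, ha, mul_inv_rev,
      refl_inv, refl_inv]; group
  have := hc x
  rw [e1, rho_mul, rho_mul, rho_mul, rho_refl_of_orth (x := x) x1,
    rho_refl_of_orth (x := x) x2, rho_refl_of_orth (x := x) x4, rho_refl_of_orth (x := x) x3] at this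
  obtain rfl : c = 1 := smul_left_injective F x0 (this.symm.trans (one_smul F x).symm)
  have : (w * a * w⁻¹ * a⁻¹).1 = 1 := O_ext fun v => by rw [hc, one_smul, rho_one]
  exact commutatorElement_eq_one_iff_commute.1 this

theorem kf_om (h7 : 7 ≤ Fintype.card ι) : KF (POmega F ⇑Q) := by
  have a1 : 7 ≤ finrank F (⊤ : Submodule F (ι → F)) := by
    rwa [finrank_top, finrank_fintype_fun_eq_card]
  obtain ⟨e, -, e1⟩ := (nondegOn_top hQ).exists_eq (by omega) 1
  have n1 := (nondegOn_top hQ).inf_ker h2 (u := e) trivial (e1 ▸ one_ne_zero)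
  have a2 := finrank_le_inf_ker ⊤ (polarBilin Q e)
  obtain ⟨f, hf, f1⟩ := n1.exists_eq (by omega) 1
  have a3 := finrank_le_inf_ker (⊤ ⊓ LinearMap.ker (polarBilin Q e)) (polarBilin Q f)
  obtain ⟨g, hg, g1⟩ := (n1.inf_ker h2 hf (f1 ▸ one_ne_zero)).exists_eq (by omega) 1
  have ef : polar Q e f = 0 := by simpa using hf.2
  have eg : polar Q e g = 0 := by simpa using hg.1.2
  have fg : polar Q f g = 0 := by simpa using hg.2
  have c1 : Commute (refl Q e) (refl Q f) := refl_comm' ef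
  have c2 : Commute (refl Q e) (refl Q g) := refl_comm' eg
  have c3 : Commute (refl Q f) (refl Q g) := refl_comm' fg
  have sq : ∀ {u v}, Commute (refl Q u) (refl Q v) → refl Q u * refl Q v * (refl Q u * refl Q v) = 1 :=
    fun h => by rw [← pow_two, h.mul_pow, pow_two, pow_two, refl_mul_self, refl_mul_self, mul_one]
  let a : Omega F ⇑Q := ⟨_, refl_mul_mem hQ h2 (e1 ▸ one_ne_zero) (e1.trans f1.symm)⟩
  let b : Omega F ⇑Q := ⟨_, refl_mul_mem hQ h2 (g1 ▸ one_ne_zero) (g1.trans f1.symm)⟩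
  refine kf_of_surj _ (QuotientGroup.mk'_surjective _) (closure {a, b}) (isPGroup_pair
    (Subtype.ext (sq c1)) (Subtype.ext (sq c3.symm)) (Subtype.ext ((c2.mul_right c1).mul_left
      (c3.mul_right (Commute.refl _))))) fun w hw hc => map_mem _ ?_
  have ha := comm_of hQ h2 (by omega) rfl (hc a (subset_closure (.inl rfl)))
  have hb := comm_of hQ h2 (by omega) rfl (hc b (subset_closure (.inr rfl)))
  obtain ⟨c, hc⟩ := scalar hQ h2 (by omega) (z := w * w) ((QuotientGroup.eq_one_iff _).1 (by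
    rw [← pow_two, ← hw]; exact pow_orderOf_eq_one (QuotientGroup.mk' (center _) w)))
  have k : ∀ {u} {x : Omega F ⇑Q}, x.1 = refl Q u * refl Q f → polar Q u f = 0 →
      w.1 * x.1 = x.1 * w.1 → rho Q x.1 (rho Q w.1 f) = -rho Q w.1 f := fun h1 h3 h => by
    rw [← rho_mul, ← h, rho_mul, h1, rho_mul, rho_refl_self (f1 ▸ one_ne_zero), map_neg,
      rho_refl_of_orth h3, map_neg]
  have k1 := k rfl ef ha
  have k2 := k rfl (polar_comm Q g f ▸ fg) hb
  have k3 : polar Q e (rho Q w.1 f) = 0 := by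
    have := B_rho b.1 e (rho Q w.1 f)
    rw [k2, rho_mul, rho_refl_of_orth ((polar_comm Q f e).trans ef),
      rho_refl_of_orth ((polar_comm Q g e).trans eg),
      polar_neg_right] at this
    exact eq_zero_of_neg h2 this.symm
  obtain ⟨μ, hμ⟩ : ∃ μ : F, rho Q w.1 f = μ • f := by
    rw [rho_mul, rho_refl f, map_sub, map_smul, rho_refl_of_orth k3, rho_refl_of_orth ef] at k1
    refine ⟨(2 : F)⁻¹ * ((Q f)⁻¹ * polar Q f (rho Q w.1 f)), ?_⟩
    rw [← smul_smul, eq_inv_smul_iff₀ h2, two_smul, ← sub_neg_eq_add, ← k1, sub_sub_cancel]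
  have m : μ * μ = 1 := by
    have := Q_rho w.1 f
    rwa [hμ, Q_smul, f1, mul_one, pow_two] at this
  have := hc f
  rw [coe_mul, rho_mul, hμ, map_smul, hμ, smul_smul, m] at this
  obtain rfl : 1 = c := smul_left_injective F (fun h => by simp [h] at f1) this
  have hT : w.1 * w.1 = 1 := O_ext fun v => (hc v).trans (by rw [one_smul, rho_one])
  obtain ⟨y, y1, y2⟩ := mem_of_neg hQ h2 hT h7 ((Sq w).map (Subgroup.subtype _)) (fun x x1 x2 =>
    ⟨_, sq_mem (x := ⟨x, x1⟩) (Subtype.ext x2.symm), rfl⟩) _ _ rfl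
    (nondeg_Eig hQ h2 hT (by simp)) le_rfl w.1 w.2 (neg_Eig hQ h2 hT)
  exact (show y = w from Subtype.ext y2) ▸ y1

end Om

theorem kf_po {p : ℕ} (hp : p.Prime) (h2 : p ≠ 2) {G : Type*} [Group G] [Finite G]
    (h : IsPOmegaOddChar p G ∨ IsPOmegaPlusChar p G ∨ IsPOmegaMinusChar p G) : KF G := by
  obtain ⟨F, _, _, _, m, hm, -, ⟨e⟩⟩ | ⟨F, _, _, _, m, hm, ⟨e⟩⟩ |
    ⟨F, _, _, _, m, a, b, hm, hab, ⟨e⟩⟩ := h <;> have h3 : (2 : F) ≠ 0 := INVK.two_ne_of hp h2
  · exact (Om.kf_om (qOdd_nondeg m h3) h3 (by simp; omega)).congr e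
  · exact (Om.kf_om (qPlus_nondeg m) h3 (by simp; omega)).congr e
  · exact (Om.kf_om (qMinus_nondeg (m - 1) hab) h3 (by simp; omega)).congr e

end Cfsg.Agent.TZ
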