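import Cfsg.Agent.TZ.Blk
import Cfsg.Agent.INVK.Cl2

set_option autoImplicit false

namespace Cfsg.Agent.TZ

open Cfsg Matrix

theorem Blk.exists_sq_add (F : Type*) [Field F] [Finite F] : ∃ α β : F, α ^ 2 + β ^ 2 = -1 := by
  obtain ⟨p, hp⟩ := CharP.exists F
  have : NeZero p := ⟨CharP.char_ne_zero_of_finite F p⟩
  obtain ⟨a, b, h⟩ := CharP.sq_add_sq F p (-1)
  exact ⟨a, b, by simpa using h⟩

theorem kf_psl {F : Type} [Field F] [Fintype F] (h2 : (2 : F) ≠ 0) {n : ℕ} (hn : 3 ≤ n) :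
    KF (Matrix.ProjectiveSpecialLinearGroup (Fin n) F) := by
  obtain ⟨α, β, h⟩ := Blk.exists_sq_add F
  have d := INVK.dt_sl (F := F) (n := n) (by omega)
  exact Blk.kf_fin hn _ d.inj (fun _ => d.scalar) h2 h fun e q hq =>
    ⟨⟨_, (det_submatrix_equiv_self e _).trans (Blk.B_det q fun j => Blk.det_of h (hq j))⟩, rfl⟩

end Cfsg.Agent.TZ
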