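import Cfsg.Agent.TZ.PSL

set_option autoImplicit false

namespace Cfsg.Agent.TZ

open Cfsg Matrix

theorem Blk.exists_skew {F : Type*} [Field F] [Fintype F] {q : ℕ} [hF : Fact (Fintype.card F = q ^ 2)]
    (h2 : (2 : F) ≠ 0) : ∃ α β : F, α ^ 2 + β ^ 2 = -1 ∧ H10.cj F q α = -α ∧ H10.cj F q β = -β := by
  obtain ⟨i, hi⟩ : IsSquare (-1 : F) := FiniteField.isSquare_neg_one_iff.2 (by
    obtain ⟨k, rfl⟩ := INVK.odd_q (q := q) h2
    rw [hF.out, show (2 * k + 1) ^ 2 = 4 * (k * k + k) + 1 by ring]; omega)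
  rcases mul_self_eq_mul_self_iff.1 (show H10.cj F q i * H10.cj F q i = i * i by
    rw [← map_mul, ← hi, map_neg, map_one]) with h | h
  swap
  · exact ⟨i, 0, by linear_combination -hi, h, by simp⟩
  obtain ⟨a, ha⟩ := H10.exists_cj_ne F q
  have h0 : H10.cj F q a - a ≠ 0 := sub_ne_zero.2 ha
  have h1 : H10.cj F q (H10.cj F q a - a) = -(H10.cj F q a - a) := by rw [map_sub, H10.cj_cj]; ring
  generalize H10.cj F q a - a = θ at h0 h1
  refine ⟨(θ - θ⁻¹) / 2, (θ + θ⁻¹) * i / 2, ?_, ?_, ?_⟩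
  · rw [div_pow, div_pow, mul_pow, pow_two i, ← hi]; field_simp; ring
  · rw [map_div₀, map_sub, map_inv₀, h1, map_ofNat]; ring
  · rw [map_div₀, map_mul, map_add, map_inv₀, h1, h, map_ofNat]; ring

theorem kf_psu {p : ℕ} (hp : p.Prime) (h2 : p ≠ 2) {G : Type*} [Group G] [Finite G]
    (h : IsPSUChar p G) : KF G := by
  obtain ⟨F, _, _, _, n, q, hq, hn, -, ⟨e⟩⟩ := h
  have := Fact.mk hq
  have h3 : (2 : F) ≠ 0 := INVK.two_ne_of hp h2
  obtain ⟨α, β, h, a1, a2⟩ := Blk.exists_skew (q := q) h3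
  have d := INVK.dt_su (F := F) (q := q) hn
  refine (Blk.kf_fin hn _ d.inj (fun _ => d.scalar) h3 h fun e r hr =>
    ⟨⟨⟨_, (det_submatrix_equiv_self e _).trans (Blk.B_det r fun j => Blk.det_of h (hr j))⟩,
      (H10.isIsom_iff _).2 ?_⟩, rfl⟩).congr e
  change ((Blk.B (r, 1)).submatrix e e)ᵀ * ((Blk.B (r, 1)).submatrix e e).map _ = 1
  rw [transpose_submatrix, ← submatrix_map, submatrix_mul_equiv, Blk.B_tr, Blk.B_map, ← map_mul,
    ← submatrix_one_equiv e, ← map_one Blk.B]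
  refine congrArg (fun x => (Blk.B x).submatrix _ _) (Prod.ext (funext fun j => ?_) (by simp))
  change (r j)ᵀ * (r j).map _ = 1
  rcases hr j with e | e | e <;> rw [e]
  · simp
  all_goals
    ext a b; fin_cases a <;> fin_cases b <;>
      simp [Blk.Jm, Blk.Ym, mul_apply, Fin.sum_univ_two, a1, a2] <;>
      first | linear_combination -h | ring

end Cfsg.Agent.TZ
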