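import Cfsg.Agent.TZ.PSL

set_option autoImplicit false

namespace Cfsg.Agent.TZ

open Cfsg Matrix

/-- the hyperbolic planes -/
def Blk.spE (m : ℕ) : Fin m ⊕ Fin m ≃ Fin 2 × Fin m ⊕ Empty where
  toFun := Sum.elim (fun j => .inl (0, j)) fun j => .inl (1, j)
  invFun := Sum.elim (fun x => if x.1 = 0 then .inl x.2 else .inr x.2) Empty.elim
  left_inv := by rintro (j | j) <;> simp
  right_inv := by
    rintro (⟨a, j⟩ | j)
    · fin_cases a <;> simp
    · exact j.elim

theorem kf_psp {p : ℕ} (hp : p.Prime) (h2 : p ≠ 2) {G : Type*} [Group G] [Finite G]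
    (h : IsPSpChar p G) : KF G := by
  obtain ⟨F, _, _, _, m, hm, -, ⟨e⟩⟩ := h
  obtain ⟨α, β, h⟩ := Blk.exists_sq_add F
  have d := INVK.dt_sp (F := F) (m := m) (by omega)
  have : Nonempty (Fin m) := ⟨⟨0, by omega⟩⟩
  refine (Blk.kf_blocks (Blk.spE m) _ d.inj (fun _ => d.scalar) (INVK.two_ne_of hp h2)
    (.inl (Fin.nontrivial_iff_two_le.2 hm)) h fun q hq => ⟨⟨(Blk.B (q, 1)).submatrix
      (Blk.spE m) (Blk.spE m), SymplecticGroup.mem_iff.2 ?_⟩, rfl⟩).congr e
  have hJ : Matrix.J (Fin m) F = (Blk.B (fun _ => Blk.Jm, 1)).submatrix (Blk.spE m) (Blk.spE m) := by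
    ext (i | i) (j | j) <;> by_cases hij : i = j <;>
      simp [Matrix.J, Blk.B_apply, Blk.spE, Blk.Jm, blockDiagonal_apply', hij]
  rw [hJ, transpose_submatrix, submatrix_mul_equiv, submatrix_mul_equiv, Blk.B_tr, ← map_mul, ← map_mul]
  refine congrArg (fun x => (Blk.B x).submatrix _ _) (Prod.ext (funext fun j => ?_) (by simp))
  have := Blk.det_of h (hq j)
  rw [det_fin_two] at this
  change q j * Blk.Jm * (q j)ᵀ = Blk.Jm
  ext a b; fin_cases a <;> fin_cases b <;> simp [Blk.Jm, mul_apply, Fin.sum_univ_two] <;>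
    first | linear_combination this | linear_combination -this | ring

end Cfsg.Agent.TZ
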