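import Cfsg.Agent.TZ.Defs
import Mathlib.LinearAlgebra.Matrix.Determinant.Basic
import Mathlib.LinearAlgebra.Matrix.Notation
import Mathlib.LinearAlgebra.Matrix.Reindex
import Mathlib.Data.Matrix.Block
import Mathlib.Tactic.LinearCombination
import Mathlib.Tactic.NoncommRing

/-! The K-fact for matrix groups containing a quaternion group on each plane of a decomposition. -/

set_option autoImplicit false
set_option linter.unusedSectionVars false

namespace Cfsg.Agent.TZ.Blk

open Subgroup Matrix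

variable {F : Type*} [Field F] {J K : Type} [Fintype J] [DecidableEq J] [Fintype K] [DecidableEq K]

local notation "M₂" => Matrix (Fin 2) (Fin 2) F

/-- block diagonal matrices -/
def B : (J → M₂) × Matrix K K F →+* Matrix (Fin 2 × J ⊕ K) (Fin 2 × J ⊕ K) F where
  toFun x := fromBlocks (blockDiagonal x.1) 0 0 x.2
  map_one' := by simp
  map_mul' x y := by simp [fromBlocks_multiply, ← blockDiagonal_mul]; rfl
  map_zero' := by simp
  map_add' x y := by simp [fromBlocks_add, blockDiagonal_add]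

theorem B_apply (q : J → M₂) (D : Matrix K K F) :
    B (q, D) = fromBlocks (blockDiagonal q) 0 0 D := rfl

theorem B_inj : Function.Injective (B (F := F) (J := J) (K := K)) := fun _ _ h =>
  Prod.ext (blockDiagonal_injective (fromBlocks_inj.1 h).1) (fromBlocks_inj.1 h).2.2.2

theorem B_smul (c : F) (x : (J → M₂) × Matrix K K F) : B (c • x) = c • B x := by
  obtain ⟨q, D⟩ := x
  simp [B_apply, fromBlocks_smul, blockDiagonal_smul]

theorem B_det (q : J → M₂) (h : ∀ j, (q j).det = 1) : (B (q, (1 : Matrix K K F))).det = 1 := by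
  simp [B_apply, det_blockDiagonal, h]

theorem B_tr (q : J → M₂) : (B (q, (1 : Matrix K K F)))ᵀ = B (fun j => (q j)ᵀ, 1) := by
  simp [B_apply, fromBlocks_transpose, blockDiagonal_transpose]

theorem B_map (q : J → M₂) (σ : F →+* F) :
    (B (q, (1 : Matrix K K F))).map σ = B (fun j => (q j).map σ, 1) := by
  simp [B_apply, fromBlocks_map, blockDiagonal_map]

/-- the first generator -/
def Jm : M₂ := !![0, -1; 1, 0]

/-- the second generator -/
def Ym (α β : F) : M₂ := !![α, β; β, -α]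

variable {α β : F}

theorem JJ : (Jm : M₂) * Jm = -1 := by
  ext i j; fin_cases i <;> fin_cases j <;> simp [Jm]

theorem YY (h : α ^ 2 + β ^ 2 = -1) : Ym α β * Ym α β = -1 := by
  ext i j; fin_cases i <;> fin_cases j <;> simp [Ym] <;> first | linear_combination h | ring

theorem JY : Jm * Ym α β = (-1 : F) • (Ym α β * Jm) := by
  ext i j; fin_cases i <;> fin_cases j <;> simp [Jm, Ym]

theorem det_J : (Jm : M₂).det = 1 := by simp [Jm]

theorem det_Y (h : α ^ 2 + β ^ 2 = -1) : (Ym α β).det = 1 := by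
  simp [Ym]; linear_combination -h

theorem scal (h2 : (2 : F) ≠ 0) (h : α ^ 2 + β ^ 2 = -1) {M : M₂} (h1 : M * Jm = Jm * M)
    (h3 : M * Ym α β = Ym α β * M) : M = M 0 0 • 1 := by
  have a1 := congrFun₂ h1 0 0
  have a2 := congrFun₂ h1 0 1
  have a3 := congrFun₂ h3 0 0
  have a4 := congrFun₂ h3 0 1
  simp [Jm, Ym, mul_apply, Fin.sum_univ_two] at a1 a2 a3 a4
  have a5 : M 0 1 = 0 := (mul_eq_zero.1 (show 2 * M 0 1 = 0 by
    linear_combination (2 * M 0 1) * h - β * a3 + α * a4 - β * β * a1 - α * β * a2)).resolve_left h2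
  ext i j; fin_cases i <;> fin_cases j <;> simp
  · exact a5
  · linear_combination a1 - a5
  · exact a2.symm

/-- the quaternion group -/
def Q8 (α β : F) : Submonoid M₂ where
  carrier := {q | q.det = 1 ∧ (∃ ε : F, ε * ε = 1 ∧ q * Jm = ε • (Jm * q)) ∧
    ∃ ε : F, ε * ε = 1 ∧ q * Ym α β = ε • (Ym α β * q)}
  one_mem' := ⟨det_one, ⟨1, by simp⟩, 1, by simp⟩
  mul_mem' := by
    have key : ∀ {a b M : M₂}, (∃ ε : F, ε * ε = 1 ∧ a * M = ε • (M * a)) →
        (∃ ε : F, ε * ε = 1 ∧ b * M = ε • (M * b)) → ∃ ε : F, ε * ε = 1 ∧ a * b * M = ε • (M * (a * b)) :=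
      fun ⟨ε, h1, h2⟩ ⟨δ, h3, h4⟩ => ⟨δ * ε, by linear_combination δ * δ * h1 + h3, by
        rw [mul_assoc, h4, mul_smul_comm, ← mul_assoc, h2, smul_mul_assoc, smul_smul, mul_assoc]⟩
    rintro a b ⟨a1, a2, a3⟩ ⟨b1, b2, b3⟩
    exact ⟨by rw [det_mul, a1, b1, one_mul], key a2 b2, key a3 b3⟩

theorem Q8_pow (h2 : (2 : F) ≠ 0) (h : α ^ 2 + β ^ 2 = -1) {q : M₂} (hq : q ∈ Q8 α β) : q ^ 4 = 1 := by
  have key : ∀ {M : M₂}, (∃ ε : F, ε * ε = 1 ∧ q * M = ε • (M * q)) → q * q * M = M * (q * q) :=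
    fun ⟨ε, h1, h2⟩ => by
      rw [mul_assoc, h2, mul_smul_comm, ← mul_assoc, h2, smul_mul_assoc, smul_smul, h1, one_smul,
        mul_assoc]
  have h3 := scal h2 h (key hq.2.1) (key hq.2.2)
  have h4 := congrArg det h3
  rw [det_mul, hq.1, det_smul, det_one, Fintype.card_fin] at h4
  rw [show 4 = 2 * 2 from rfl, pow_mul, pow_two q, h3, smul_pow, one_pow, ← mul_one (_ ^ 2), ← h4,
    mul_one, one_smul]

theorem J_mem : Jm ∈ Q8 α β := ⟨det_J, ⟨1, by simp⟩, -1, by simp, JY⟩

theorem Y_mem (h : α ^ 2 + β ^ 2 = -1) : Ym α β ∈ Q8 α β :=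
  ⟨det_Y h, ⟨-1, by simp, by simp [JY]⟩, 1, by simp⟩

theorem exact_comm (h2 : (2 : F) ≠ 0) (h3 : Nontrivial J ∨ Nonempty K) {M : M₂} (hM : M * M = -1)
    (ht : M 0 0 + M 1 1 = 0) (j : J) {c : F} {W W' : Matrix (Fin 2 × J ⊕ K) (Fin 2 × J ⊕ K) F}
    (hW : W' * W = 1) (h : W * B (Pi.mulSingle j M, 1) * W' = c • B (Pi.mulSingle j M, 1)) :
    c = 1 := by
  have p : ∀ c : F, ((c • (Pi.mulSingle j M, 1) - 1) * (c • (Pi.mulSingle j M, 1) *
      c • (Pi.mulSingle j M, 1) + 1) : (J → M₂) × Matrix K K F) =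
      (fun i => if i = j then (1 - c * c) • (c • M - 1) else ((c - 1) * (c * c + 1)) • 1,
        ((c - 1) * (c * c + 1)) • 1) := fun c => by
    refine Prod.ext (funext fun i => ?_) ?_
    · by_cases hi : i = j
      · subst hi
        simp only [Prod.fst_mul, Prod.fst_sub, Prod.fst_add, Prod.smul_fst, Prod.fst_one, Pi.mul_apply,
          Pi.sub_apply, Pi.add_apply, Pi.smul_apply, Pi.one_apply, Pi.mulSingle_eq_same, if_true,
          smul_mul_smul_comm, hM]
        rw [mul_add, mul_smul_comm, mul_neg, mul_one]; module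
      · simp [hi, sub_mul, mul_add, sub_smul, add_smul, smul_smul, mul_assoc]
    · simp [sub_mul, mul_add, sub_smul, add_smul, smul_smul, mul_assoc]
  have p1 := congrArg B (p 1)
  have p2 := congrArg B (p c)
  rw [map_mul, map_sub, map_add, map_mul, map_one, B_smul] at p1 p2
  replace p1 := p1.trans ((congrArg B (by ext <;> simp)).trans (map_zero B))
  rw [one_smul] at p1
  generalize B (Pi.mulSingle j M, (1 : Matrix K K F)) = A at h p1 p2
  have p3 := B_inj (p2.symm.trans (show _ = B 0 by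
    have hW' := mul_eq_one_comm.1 hW
    rw [← h, map_zero, ← hW']
    have : W * A * W' * (W * A * W') = W * (A * A) * W' := by
      rw [mul_assoc, ← mul_assoc W', ← mul_assoc W', hW, one_mul]; noncomm_ring
    rw [this]
    calc _ = W * ((A - 1) * (W' * W) * (A * A + 1)) * W' := by noncomm_ring
      _ = 0 := by rw [hW, mul_one, p1, mul_zero, zero_mul]))
  have e1 : (c - 1) * (c * c + 1) = 0 := by
    rcases h3 with h3 | ⟨⟨k⟩⟩
    · obtain ⟨i, hi⟩ := exists_ne j
      simpa [hi] using congrFun₂ (congrFun (congrArg Prod.fst p3) i) 0 0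
    · simpa using congrFun₂ (congrArg Prod.snd p3) k k
  have e2 := congrFun₂ (congrFun (congrArg Prod.fst p3) j) 0 0
  have e3 := congrFun₂ (congrFun (congrArg Prod.fst p3) j) 1 1
  simp only [if_true, Matrix.smul_apply, Matrix.sub_apply, one_apply_eq, smul_eq_mul, Prod.fst_zero,
    Pi.zero_apply, Matrix.zero_apply] at e2 e3
  have e4 : c * c = 1 := by
    have := (mul_eq_zero.1 (show 2 * (c * c - 1) = 0 by
      linear_combination e2 + e3 - (1 - c * c) * c * ht)).resolve_left h2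
    linear_combination this
  have := (mul_eq_zero.1 (show 2 * (c - 1) = 0 by
    linear_combination e1 - (c - 1) * e4)).resolve_left h2
  linear_combination this

theorem exists_B (h2 : (2 : F) ≠ 0) {W : Matrix (Fin 2 × J ⊕ K) (Fin 2 × J ⊕ K) F}
    (h : ∀ j, W * B (Pi.mulSingle j (-1), 1) = B (Pi.mulSingle j (-1), 1) * W) : ∃ x, W = B x := by
  have d : ∀ j : J, B (Pi.mulSingle j (-1 : M₂), (1 : Matrix K K F)) =
      diagonal (Sum.elim (fun x => if x.2 = j then -1 else 1) fun _ => 1) := fun j => by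
    rw [← fromBlocks_diagonal, B_apply, diagonal_one]
    congr 1
    ext ⟨a, i⟩ ⟨b, i'⟩
    by_cases h1 : i = i'
    · subst h1
      by_cases h2 : i = j <;> by_cases h3 : a = b <;> simp [h2, h3]
    · simp [blockDiagonal_apply', h1]
  have z : ∀ x : F, x = -x → x = 0 := fun x h =>
    (mul_eq_zero.1 (by linear_combination h : 2 * x = 0)).resolve_left h2
  refine ⟨(fun j => of fun a b => W (.inl (a, j)) (.inl (b, j)), of fun k l => W (.inr k) (.inr l)), ?_⟩
  ext (⟨a, i⟩ | k) (⟨b, j⟩ | l)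
  · by_cases hij : i = j
    · simp [B_apply, hij]
    · have := congrFun₂ (h i) (.inl (a, i)) (.inl (b, j))
      rw [d, mul_diagonal, diagonal_mul] at this
      simpa [B_apply, blockDiagonal_apply', hij] using z _ (by simpa [Ne.symm hij] using this)
  · have := congrFun₂ (h i) (.inl (a, i)) (.inr l)
    rw [d, mul_diagonal, diagonal_mul] at this
    simpa [B_apply] using z _ (by simpa using this)
  · have := congrFun₂ (h j) (.inr k) (.inl (b, j))
    rw [d, mul_diagonal, diagonal_mul] at this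
    simpa [B_apply] using z _ (by simpa using this.symm)
  · simp [B_apply]

theorem kf_B {X : Type*} [Group X] (mat : X →* Matrix (Fin 2 × J ⊕ K) (Fin 2 × J ⊕ K) F)
    (inj : Function.Injective mat) (hZ : ∀ z ∈ center X, ∃ c : F, mat z = c • 1) (h2 : (2 : F) ≠ 0)
    [Subsingleton K] [Nonempty J] (h3 : Nontrivial J ∨ Nonempty K) (h : α ^ 2 + β ^ 2 = -1)
    (hx : ∀ q : J → M₂, (∀ j, q j = 1 ∨ q j = Jm ∨ q j = Ym α β) → ∃ g, mat g = B (q, 1)) :
    KF (X ⧸ center X) := by
  have p4 : ∀ {g : X} {q : J → M₂}, (∀ j, q j ∈ Q8 α β) → mat g = B (q, 1) → g ^ 4 = 1 :=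
    fun {g q} h1 h3 => inj (by
      rw [map_pow, h3, ← map_pow, map_one, ← map_one B]
      exact congrArg B (Prod.ext (funext fun j => Q8_pow h2 h (h1 j)) (one_pow 4)))
  let P : Subgroup X :=
    { carrier := {g | ∃ q : J → M₂, (∀ j, q j ∈ Q8 α β) ∧ mat g = B (q, 1)}
      one_mem' := ⟨1, fun _ => one_mem _, (map_one mat).trans (map_one B).symm⟩
      mul_mem' := fun ⟨q, h1, h3⟩ ⟨q', h4, h5⟩ => ⟨q * q', fun j => mul_mem (h1 j) (h4 j), by
        rw [map_mul, h3, h5, ← map_mul, Prod.mk_mul_mk, mul_one]⟩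
      inv_mem' := fun {g} ⟨q, h1, h3⟩ => ⟨q ^ 3, fun j => pow_mem (h1 j) 3, by
        rw [inv_eq_of_mul_eq_one_right ((pow_succ' g 3).symm.trans (p4 h1 h3)), map_pow, h3,
          ← map_pow, Prod.pow_mk, one_pow]⟩ }
  refine kf_of_surj _ (QuotientGroup.mk'_surjective _) P
    (fun ⟨g, q, h1, h3⟩ => ⟨2, Subtype.ext (p4 h1 h3)⟩) fun w hw hc => ?_
  have key : ∀ (j : J) (M : M₂), M = Jm ∨ M = Ym α β →
      mat w * B (Pi.mulSingle j M, 1) = B (Pi.mulSingle j M, 1) * mat w := fun j M hM => by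
    have m1 : ∀ i, (Pi.mulSingle j M : J → M₂) i = 1 ∨ (Pi.mulSingle j M : J → M₂) i = M := fun i => by
      by_cases hi : i = j <;> simp [hi]
    obtain ⟨a, ha⟩ := hx (Pi.mulSingle j M) fun i => (m1 i).imp_right fun e => by rwa [e]
    have m2 : M ∈ Q8 α β := by
      rcases hM with rfl | rfl
      exacts [J_mem, Y_mem h]
    have m3 : M * M = -1 := by
      rcases hM with rfl | rfl
      exacts [JJ, YY h]
    obtain ⟨c, hc⟩ := hZ (w * a * w⁻¹ * a⁻¹) ((QuotientGroup.eq_one_iff _).1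
      (commutatorElement_eq_one_iff_commute.2 (hc a ⟨_, fun i => by
        rcases m1 i with e | e <;> rw [e]
        exacts [one_mem _, m2], ha⟩).symm))
    have e1 : mat w * B (Pi.mulSingle j M, 1) * mat w⁻¹ = c • B (Pi.mulSingle j M, 1) := by
      rw [← ha, ← map_mul, ← map_mul, ← one_mul (mat a), ← smul_mul_assoc, ← hc, ← map_mul,
        inv_mul_cancel_right]
    obtain rfl := exact_comm h2 h3 m3
      (by rcases hM with rfl | rfl <;> simp [Jm, Ym]) j (by rw [← map_mul, inv_mul_cancel, map_one]) e1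
    rw [one_smul] at e1
    conv_rhs => rw [← e1, mul_assoc, ← map_mul, inv_mul_cancel, map_one, mul_one]
  obtain ⟨⟨q, D⟩, hq⟩ := exists_B h2 (W := mat w) fun j => by
    have : B (Pi.mulSingle j (-1 : M₂), (1 : Matrix K K F)) =
        B (Pi.mulSingle j Jm, 1) * B (Pi.mulSingle j Jm, 1) := by
      rw [← map_mul, Prod.mk_mul_mk, ← Pi.mulSingle_mul, JJ, mul_one]
    rw [this]
    exact Commute.mul_right (key j _ (.inl rfl)) (key j _ (.inl rfl))
  have k2 : ∀ (j : J) (M : M₂), M = Jm ∨ M = Ym α β → q j * M = M * q j := fun j M hM => by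
    have := key j M hM
    rw [hq, ← map_mul, ← map_mul] at this
    simpa using congrFun (congrArg Prod.fst (B_inj this)) j
  have k3 := fun j => scal h2 h (k2 j _ (.inl rfl)) (k2 j _ (.inr rfl))
  obtain ⟨μ, hμ⟩ := hZ (w * w) ((QuotientGroup.eq_one_iff _).1 (by
    rw [← pow_two, ← hw]; exact pow_orderOf_eq_one (QuotientGroup.mk' (center _) w)))
  rw [map_mul, hq, ← map_mul, ← map_one B, ← B_smul] at hμ
  have k4 : ∀ j, q j 0 0 * q j 0 0 = μ := fun j => by
    have : q j * q j = μ • 1 := congrFun (congrArg Prod.fst (B_inj hμ)) j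
    have e := k3 j
    generalize q j 0 0 = a at e
    rw [e, smul_mul_smul_comm] at this
    simpa using congrFun₂ this 0 0
  obtain ⟨l, l1, rfl⟩ : ∃ l : F, l * l = μ ∧ D = l • 1 := by
    rcases isEmpty_or_nonempty K with hK | ⟨⟨k⟩⟩
    · exact ⟨_, k4 (Classical.arbitrary J), Subsingleton.elim _ _⟩
    have e : D = D k k • 1 := by ext a b; simp [Subsingleton.elim a k, Subsingleton.elim b k]
    have : D * D = μ • 1 := congrArg Prod.snd (B_inj hμ)
    generalize D k k = a at e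
    rw [e, smul_mul_smul_comm] at this
    exact ⟨_, by simpa using congrFun₂ this k k, e⟩
  classical
  obtain ⟨s, hs⟩ := hx (fun j => if q j 0 0 = l then 1 else Jm) fun j => by
    split_ifs <;> simp
  have c1 : Commute s w := inj (by
    rw [map_mul, map_mul, hs, hq, ← map_mul, ← map_mul]
    exact congrArg B (Prod.ext (funext fun j => by
      simp only [Prod.fst_mul, Pi.mul_apply]; rw [k3 j]; simp) (by simp)))
  have c2 : mat (w * (s * s)) = l • 1 := by
    rw [map_mul, map_mul, hs, hq, ← map_mul, ← map_mul, ← map_one B, ← B_smul]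
    refine congrArg B (Prod.ext (funext fun j => ?_) (by simp))
    simp only [Prod.fst_mul, Pi.mul_apply, Prod.smul_fst, Pi.smul_apply, Prod.fst_one, Pi.one_apply]
    split_ifs with hj
    · rw [mul_one, mul_one, k3 j, hj]
    · rw [JJ, k3 j, (mul_self_eq_mul_self_iff.1 ((k4 j).trans l1.symm)).resolve_left hj]; simp
  have c3 : w * (s * s) ∈ center X := mem_center_iff.2 fun g => inj (by
    rw [map_mul, map_mul mat _ g, c2]; simp)
  have c4 := (QuotientGroup.eq_one_iff _).2 c3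
  have c5 := inv_mem (sq_mem (c1.map (QuotientGroup.mk' (center X))))
  rwa [← show QuotientGroup.mk' (center X) w = _ from eq_inv_of_mul_eq_one_left c4] at c5

theorem kf_blocks {X : Type*} [Group X] {ι : Type} [Fintype ι] [DecidableEq ι]
    (e : ι ≃ Fin 2 × J ⊕ K) (mat : X →* Matrix ι ι F)
    (inj : Function.Injective mat) (hZ : ∀ z ∈ center X, ∃ c : F, mat z = c • 1) (h2 : (2 : F) ≠ 0)
    [Subsingleton K] [Nonempty J] (h3 : Nontrivial J ∨ Nonempty K) (h : α ^ 2 + β ^ 2 = -1)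
    (hx : ∀ q : J → M₂, (∀ j, q j = 1 ∨ q j = Jm ∨ q j = Ym α β) →
      ∃ g, mat g = (B (q, 1)).submatrix e e) : KF (X ⧸ center X) :=
  kf_B ((reindexAlgEquiv F F e).toMulEquiv.toMonoidHom.comp mat)
    ((reindexAlgEquiv F F e).injective.comp inj) (fun z hz => (hZ z hz).imp fun c hc => by
      change reindexAlgEquiv F F e (mat z) = _
      rw [hc, map_smul, map_one]) h2 h3 h fun q hq => (hx q hq).imp fun g hg => by
      change reindexAlgEquiv F F e (mat g) = _
      rw [hg]; simp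

theorem kf_fin {X : Type*} [Group X] {n : ℕ} (hn : 3 ≤ n) (mat : X →* Matrix (Fin n) (Fin n) F)
    (inj : Function.Injective mat) (hZ : ∀ z ∈ center X, ∃ c : F, mat z = c • 1) (h2 : (2 : F) ≠ 0)
    (h : α ^ 2 + β ^ 2 = -1) (hx : ∀ (e : Fin n ≃ Fin 2 × Fin (n / 2) ⊕ Fin (n % 2))
      (q : Fin (n / 2) → M₂), (∀ j, q j = 1 ∨ q j = Jm ∨ q j = Ym α β) →
      ∃ g, mat g = (B (q, 1)).submatrix e e) : KF (X ⧸ center X) :=
  have : Subsingleton (Fin (n % 2)) := Fin.subsingleton_iff_le_one.2 (by omega)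
  have : Nonempty (Fin (n / 2)) := ⟨⟨0, by omega⟩⟩
  kf_blocks (Fintype.equivOfCardEq (by simp; omega)) mat inj hZ h2 (by
    by_cases h : n % 2 = 0
    · exact .inl (Fin.nontrivial_iff_two_le.2 (by omega))
    · exact .inr ⟨⟨0, by omega⟩⟩) h (hx _)

theorem det_of (h : α ^ 2 + β ^ 2 = -1) {q : M₂} (hq : q = 1 ∨ q = Jm ∨ q = Ym α β) : q.det = 1 := by
  rcases hq with rfl | rfl | rfl
  exacts [det_one, det_J, det_Y h]

end Cfsg.Agent.TZ.Blk
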