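import Mathlib.GroupTheory.Sylow
import Mathlib.GroupTheory.Commutator.Basic
import Cfsg.Prelude.Def_LieTypeChar

/-! Project TZ (S3226): definitions.  `Sq v` is the subgroup generated by the squares of the elements commuting with `v`;
`KF F` says that some `2`-subgroup `P` has the property that every involution centralising `P` lies in `Sq v`. -/

set_option autoImplicit false

namespace Cfsg.Agent.TZ

open Subgroup
open scoped commutatorElement

variable {F : Type*} [Group F]

/-- The subgroup generated by the squares of the elements of `C(v)`. -/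
def Sq (v : F) : Subgroup F := closure {y | ∃ x, Commute x v ∧ y = x * x}

/-- The K-fact of project TZ. -/
def KF (F : Type*) [Group F] : Prop :=
  ∃ P : Subgroup F, IsPGroup 2 P ∧ ∀ v : F, orderOf v = 2 → (∀ x ∈ P, Commute x v) → v ∈ Sq v

theorem sq_mem {v x : F} (h : Commute x v) : x * x ∈ Sq v := subset_closure ⟨x, h, rfl⟩

theorem commute_of_mem {v y : F} (h : y ∈ Sq v) : Commute y v := by
  induction h using closure_induction with
  | mem y h => obtain ⟨x, h, rfl⟩ := h; exact h.mul_left h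
  | one => exact Commute.one_left v
  | mul _ _ _ _ a b => exact a.mul_left b
  | inv _ _ a => exact a.inv_left

theorem comm_mem {v x y : F} (hx : Commute x v) (hy : Commute y v) : x * y * x⁻¹ * y⁻¹ ∈ Sq v := by
  have e : x * y * x⁻¹ * y⁻¹ = (x * x) * ((x⁻¹ * y) * (x⁻¹ * y)) * (y⁻¹ * y⁻¹) := by group
  rw [e]
  exact mul_mem (mul_mem (sq_mem hx) (sq_mem (hx.inv_left.mul_left hy))) (sq_mem hy.inv_left)

theorem comm_mem' {v x y : F} (hx : Commute x v) (hy : Commute y v) : ⁅x, y⁆ ∈ Sq v := comm_mem hx hy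

theorem odd_mem {v x : F} (hx : Commute x v) (h : Odd (orderOf x)) : x ∈ Sq v := by
  obtain ⟨k, hk⟩ := h
  have : x = x ^ (k + 1) * x ^ (k + 1) := by
    rw [← pow_add, show k + 1 + (k + 1) = orderOf x + 1 by omega, pow_succ, pow_orderOf_eq_one, one_mul]
  rw [this]
  exact sq_mem (hx.pow_left _)

theorem conj_mem {v x y : F} (hx : Commute x v) (hy : y ∈ Sq v) : x * y * x⁻¹ ∈ Sq v := by
  have := mul_mem (comm_mem hx (commute_of_mem hy)) hy
  simpa [mul_assoc] using this

/-- A subgroup of `C(v)` that is perfect lies in `Sq v`. -/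
theorem commutator_le_Sq {v : F} {H : Subgroup F} (h : ∀ x ∈ H, Commute x v) : ⁅H, H⁆ ≤ Sq v :=
  Subgroup.commutator_le.2 fun _ a _ b => comm_mem' (h _ a) (h _ b)

theorem map_mem {H : Type*} [Group H] (f : H →* F) {w y : H} (h : y ∈ Sq w) : f y ∈ Sq (f w) := by
  induction h using closure_induction with
  | mem y h => obtain ⟨x, h, rfl⟩ := h; rw [map_mul]; exact sq_mem (h.map f)
  | one => rw [map_one]; exact one_mem _
  | mul _ _ _ _ a b => rw [map_mul]; exact mul_mem a b
  | inv _ _ a => rw [map_inv]; exact inv_mem a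

/-- Every homomorphism from `C(v)` to a group of exponent `2` kills `Sq v`. -/
theorem hom_eq_one {v : F} {A : Type*} [Group A] (hA : ∀ a : A, a * a = 1) (φ : centralizer ({v} : Set F) →* A)
    {y : F} (h : y ∈ Sq v) (hy : y ∈ centralizer ({v} : Set F)) : φ ⟨y, hy⟩ = 1 := by
  have key : ∀ y (h : y ∈ Sq v), φ ⟨y, mem_centralizer_singleton_iff.2 (commute_of_mem h).eq⟩ = 1 := by
    intro y h
    induction h using closure_induction with
    | mem y h =>
      obtain ⟨x, h, rfl⟩ := h
      rw [← hA (φ ⟨x, mem_centralizer_singleton_iff.2 h.eq⟩), ← map_mul]; rfl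
    | one => exact map_one φ
    | mul a b ha hb h1 h2 => exact (map_mul φ ⟨a, _⟩ ⟨b, _⟩).trans (by rw [h1, h2, one_mul])
    | inv a ha h1 => exact (map_inv φ ⟨a, _⟩).trans (by rw [h1, inv_one])
  exact key y h

theorem kf_of_surj {H : Type*} [Group H] (f : H →* F) (hf : Function.Surjective f) (P : Subgroup H)
    (hP : IsPGroup 2 P) (h : ∀ w : H, orderOf (f w) = 2 → (∀ x ∈ P, Commute (f x) (f w)) → f w ∈ Sq (f w)) :
    KF F := by
  refine ⟨P.map f, hP.map f, fun v hv hc => ?_⟩
  obtain ⟨w, rfl⟩ := hf v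
  exact h w hv fun x hx => hc _ ⟨x, hx, rfl⟩

theorem KF.congr {H : Type*} [Group H] (h : KF H) (e : F ≃* H) : KF F := by
  obtain ⟨P, hP, h⟩ := h
  refine kf_of_surj e.symm.toMonoidHom e.symm.surjective P hP fun w hw hc => map_mem _ (h w ?_ fun x hx => ?_)
  · exact (e.symm.orderOf_eq w).symm.trans hw
  · exact e.symm.injective (by rw [map_mul, map_mul]; exact (hc x hx).eq)

/-- If every involution is in `Sq`, take `P = 1`. -/
theorem kf_of_all (h : ∀ v : F, orderOf v = 2 → v ∈ Sq v) : KF F :=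
  ⟨⊥, IsPGroup.of_bot, fun v hv _ => h v hv⟩

/-- A `2`-central involution of a group with `KF` lies in `Sq`. -/
theorem KF.mem [Finite F] (h : KF F) (T : Sylow 2 F) {u : F} (hu : orderOf u = 2) (hc : ∀ x ∈ (T : Subgroup F), Commute x u) :
    u ∈ Sq u := by
  obtain ⟨P, hP, h⟩ := h
  obtain ⟨Q, hQ⟩ := hP.exists_le_sylow
  obtain ⟨g, rfl⟩ := MulAction.exists_smul_eq F T Q
  have h1 := h (MulAut.conj g u) (by rw [MulEquiv.orderOf_eq, hu]) fun x hx => by
    obtain ⟨y, hy, rfl⟩ := hQ hx
    exact (hc y hy).map (MulAut.conj g)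
  simpa [mul_assoc] using map_mem (MulAut.conj g).symm.toMonoidHom h1

end Cfsg.Agent.TZ
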