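import Cfsg.Agent.TZ.Defs
import Cfsg.Agent.H37.Twist
import Cfsg.Agent.H37.Inv
import Cfsg.Agent.H37.Levi

/-! Project TZ, exceptional groups: involutions of the simply connected groups are products of squares. -/

set_option autoImplicit false

namespace Cfsg.Agent.TZ.Ex

open Cfsg.Lie Cfsg.Lie.ChevalleyDatum H37 H38 H39 Finset Chev

universe u

variable {D : ChevalleyDatum} [Chev D] {hD : IsChev D} {k : Type u} [Field k] {Γ : Type*} [Group Γ] {A : Cov hD k Γ}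

variable (A) in
theorem n_sq (r : Fin D.nroots) {c : k} (hc : c ≠ 0) : A.X.n r c * A.X.n r c = A.T (expY (-1) (cv r)) := by
  rw [← A.h_eq_torus, RG0.n_mul_n, mul_inv_eq_iff_eq_mul, A.h_mul _ (by simp) (by simpa using hc)]
  simp

variable (A) in
theorem n_negr (r : Fin D.nroots) : ∃ a : k, a ≠ 0 ∧ ∀ u : k, u ≠ 0 → A.X.n ((rs D).neg r) (a * u) = A.X.n r u⁻¹ := by
  have h := A.rep_n r one_ne_zero
  obtain ⟨a, ha, e⟩ := h.acts.exists_conj_n h.mem_W r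
  have h1 : reflPerm D r r = (rs D).neg r := Fin.ext (by rw [rs_neg_val]; exact if_pos rfl)
  refine ⟨a, ha, fun u hu => ?_⟩
  have h2 := A.n_conj_torus r (expY (Units.mk0 u hu) (cv r))
  rw [rootChar_expY, pr_cv, pairing_self r r.2, ← A.h_eq_torus, mul_inv_eq_iff_eq_mul] at h2
  rw [← h1, ← e, A.X.n_eq_h_mul r u, A.X.n_eq_h_mul r u⁻¹, ← mul_assoc, mul_inv_cancel_right]
  refine h2.trans (congrArg (· * _) (mul_inv_eq_iff_eq_mul.2 ?_))
  rw [A.h_mul _ (inv_ne_zero hu) (Units.ne_zero _)]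
  congr 1
  simp [sq, hu]

theorem fix_n [IsAlgClosed k] (Φ : A.Frob) {r : Fin D.nroots} (h : Φ.τ r = r ∧ 2 ≤ Φ.e r ∨ Φ.τ r = (rs D).neg r) :
    ∃ t : k, t ≠ 0 ∧ Φ.σ (A.X.n r t) = A.X.n r t := by
  have hc := Φ.c_ne r
  rcases h with ⟨h, h'⟩ | h
  · obtain ⟨m, hm⟩ : ∃ m, Φ.e r = m + 1 := ⟨Φ.e r - 1, by omega⟩
    obtain ⟨t, ht⟩ := IsAlgClosed.exists_pow_nat_eq (Φ.c r)⁻¹ (show 0 < m by omega)
    refine ⟨t, by rintro rfl; exact inv_ne_zero hc (ht.symm.trans (zero_pow (by omega))), ?_⟩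
    rw [Φ.σ_n, h, Φ.f_eq, hm, pow_succ, ht, mul_inv_cancel_left₀ hc]
  · obtain ⟨a, ha, e⟩ := n_negr A r
    obtain ⟨t, ht⟩ := IsAlgClosed.exists_pow_nat_eq (a * (Φ.c r)⁻¹) (Φ.e r).succ_pos
    have h0 : t ≠ 0 := by rintro rfl; exact mul_ne_zero ha (inv_ne_zero hc) (ht.symm.trans (zero_pow (by omega)))
    refine ⟨t, h0, ?_⟩
    rw [Φ.σ_n, h, Φ.f_eq, show Φ.c r * t ^ Φ.e r = a * t⁻¹ by
      rw [pow_succ] at ht; field_simp at ht ⊢; linear_combination ht, e _ (inv_ne_zero h0), inv_inv]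

omit [Chev D] in
theorem expY_congr {a b : Fin D.rank → ℤ} (h : ∀ i, 2 ∣ a i - b i) : expY (-1 : kˣ) a = expY (-1) b := funext fun i => by
  obtain ⟨c, hc⟩ := h i
  rw [expY, expY, sub_eq_iff_eq_add.1 hc, zpow_add, zpow_mul]; simp

variable {Φ : A.Frob} {G : Type*} [Group G] (μ : Φ.Model G)

theorem sq_T [IsAlgClosed k] (he : ∀ r, 2 ≤ Φ.e r) {b : Fin D.rank → ℤ} {L : List (Fin D.nroots)}
    (h1 : ∀ r ∈ L, Φ.τ r = r ∧ 2 ∣ pr r b) (h2 : ∀ i, 2 ∣ b i - (L.map cv).sum i) :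
    ∃ y, μ.ι y = A.T (expY (-1) b) ∧ y ∈ Sq y := by
  suffices h : ∃ y, μ.ι y = A.T (expY (-1) (L.map cv).sum) ∧ ∀ v, μ.ι v = A.T (expY (-1) b) → y ∈ Sq v by
    obtain ⟨y, e, h⟩ := h
    rw [← expY_congr h2] at e
    exact ⟨y, e, h y e⟩
  clear h2
  induction L with
  | nil => exact ⟨1, by simp [expY_zero], fun _ _ => one_mem _⟩
  | cons r L ih =>
    obtain ⟨y, e, h⟩ := ih fun s hs => h1 s (by simp [hs])
    obtain ⟨a1, c, a2⟩ := h1 r (by simp)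
    obtain ⟨t, ht, e'⟩ := fix_n Φ (.inl ⟨a1, he r⟩)
    obtain ⟨z, hz⟩ := (μ.fix_iff _).1 e'
    refine ⟨z * z * y, by rw [map_mul, map_mul, hz, e, n_sq A r ht, ← map_mul, ← expY_add]; rfl, fun v hv =>
      mul_mem (sq_mem (μ.inj ?_)) (h v hv)⟩
    have a3 : r ∈ Psi A.X {A.T (expY (-1) b)} := (A.mem_Psi_torus _ r).2 (by rw [rootChar_expY, a2, zpow_mul]; simp)
    rw [map_mul, map_mul, hz, hv]
    exact (US_Psi_le _ (A.X.n_mem_US a3 (Cov.neg_mem_Psi (Set.singleton_subset_iff.2 (A.torus_mem _)) a3) t) _ rfl).symm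

/-- a sum of at most two unit vectors -/
def ee (i j l : ℕ) : ℤ := (if l = i then 1 else 0) + if l = j then 1 else 0

theorem exists_unit {n : ℕ} {m : Fin n → ℤ} (h : ∀ i, 0 ≤ m i) {N : ℤ} (hN : 0 ≤ N) (h1 : ∑ i, m i ≤ N + 1) :
    ∃ i ≤ n, (∀ l : Fin n, 0 ≤ m l - if l.1 = i then 1 else 0) ∧ ∑ l : Fin n, (m l - if l.1 = i then 1 else 0) ≤ N := by
  by_cases h2 : ∃ i, m i ≠ 0
  · obtain ⟨i, hi⟩ := h2
    refine ⟨i, i.2.le, fun l => ?_, by simp [Fin.val_inj]; omega⟩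
    have := h l
    split_ifs with e
    · obtain rfl := Fin.ext e; omega
    · omega
  · push Not at h2
    exact ⟨n, le_rfl, fun l => by simp [h2, l.2.ne], by simp [h2, hN, fun l : Fin n => l.2.ne]⟩

theorem exists_ee {n : ℕ} {m : Fin n → ℤ} (h : ∀ i, 0 ≤ m i) (h1 : ∑ i, m i ≤ 2) :
    ∃ i ≤ n, ∃ j ≤ n, ∀ l : Fin n, m l = ee i j l := by
  obtain ⟨i, hi, a1, a2⟩ := exists_unit h zero_le_one h1
  obtain ⟨j, hj, a3, a4⟩ := exists_unit a1 le_rfl a2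
  refine ⟨i, hi, j, hj, fun l => ?_⟩
  have := (sum_eq_zero_iff_of_nonneg fun l _ => a3 l).1 (le_antisymm a4 (sum_nonneg fun l _ => a3 l)) l (mem_univ l)
  rw [ee]; omega

/-- certificate for the points of the fundamental alcove -/
def alcOK (D : ChevalleyDatum) (τ : ℕ → ℕ) (θ : ℕ) (v : List ℤ) (C : List (List ℤ × List ℕ)) (U : List (List ℤ))
    (d : ℤ) (z : Bool) : Bool :=
  decide (θ < D.nroots) && ((List.range D.rank).all fun j =>
    (D.cartan j θ == H37.sumLT D.rank fun i => v.getD i 0 * D.cartan j (D.simple i)) && decide (1 ≤ v.getD j 0)) &&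
  (C.all fun c => (c.2.all fun r => decide (r < D.nroots) && τ r == r && dotL c.1 (datR D r).1 % 2 == 0) &&
    (List.range D.rank).all fun j => (c.1.getD j 0 - (c.2.map (cor D · j)).sum) % 2 == 0) &&
  (U.all fun u => (List.range D.rank).all fun j =>
    (H37.sumLT D.rank fun i => u.getD i 0 * D.cartan j (D.simple i)) % d == 0) &&
  (List.range (D.rank + 1)).all fun i => (List.range (D.rank + 1)).all fun j =>
    decide (2 < H37.sumLT D.rank fun l => v.getD l 0 * ee i j l) ||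
    (C.any fun c => (List.range D.rank).all fun l => dotL c.1 (datR D (D.simple l)).1 == ee i j l) ||
    (U.any fun u => (H37.sumLT D.rank fun l => u.getD l 0 * ee i j l) % d != 0) || (z && i == j)

theorem sum_pr (u : List ℤ) (b : Fin D.rank → ℤ) : ∑ i : Fin D.rank, u.getD i 0 * pr ((rs D).sp i) b =
    ∑ j : Fin D.rank, b j * ∑ i : Fin D.rank, u.getD i 0 * D.cartan j (D.simple i) := by
  simp only [pr_apply, mul_sum]
  rw [sum_comm]
  exact sum_congr rfl fun j _ => sum_congr rfl fun i _ => by rw [rs_sp_val]; ring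

theorem alc_spec {τ θ v C U d z} (h : alcOK D τ θ v C U d z = true) {b : Fin D.rank → ℤ}
    (h1 : ∀ i, 0 ≤ pr ((rs D).sp i) b) (h2 : ∀ r, pr r b ≤ 2) :
    (∃ L : List (Fin D.nroots), (∀ r ∈ L, τ r = r ∧ 2 ∣ pr r b) ∧ ∀ i, 2 ∣ b i - (L.map cv).sum i) ∨
      z = true ∧ ∀ i, 2 ∣ pr ((rs D).sp i) b := by
  simp only [alcOK, Bool.and_eq_true, decide_eq_true_eq, List.all_eq_true, List.mem_range, beq_iff_eq,
    Bool.or_eq_true, bne_iff_ne, H37.sumLT_eq, sum_range, List.any_eq_true] at h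
  obtain ⟨⟨⟨⟨hθ, h3⟩, h4⟩, h5⟩, h6⟩ := h
  have h7 : ∑ i : Fin D.rank, v.getD i 0 * pr ((rs D).sp i) b ≤ 2 := by
    rw [sum_pr]
    exact le_of_eq_of_le (sum_congr rfl fun j _ => by rw [← (h3 j j.2).1]) (h2 ⟨θ, hθ⟩)
  obtain ⟨i, hi, j, hj, e⟩ := exists_ee h1 (le_trans (sum_le_sum fun i _ =>
    le_mul_of_one_le_left (h1 i) (h3 i i.2).2) h7)
  rcases h6 i (by omega) j (by omega) with ((h8 | ⟨c, hc, h8⟩) | ⟨u, hu, h8⟩) | ⟨h8, rfl⟩
  · simp only [e] at h7; omega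
  · obtain rfl : b = toF D.rank c.1 := sub_eq_zero.1 (eq_zero_of_pr_sp fun l => by
      rw [map_sub, e, ← dotL_datR, rs_sp_val, h8 l l.2, sub_self])
    obtain ⟨a1, a2⟩ := h4 c hc
    refine .inl ⟨c.2.pmap Fin.mk fun r hr => (a1 r hr).1.1, fun r hr => ?_, fun l => ?_⟩
    · obtain ⟨r, hr', rfl⟩ := List.mem_pmap.1 hr
      exact ⟨(a1 r hr').1.2, dotL_datR c.1 _ ▸ Int.dvd_of_emod_eq_zero (a1 r hr').2⟩
    · refine (Int.dvd_of_emod_eq_zero (a2 l l.2)).trans (dvd_of_eq (congrArg (c.1.getD l 0 - ·) (Eq.symm ?_)))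
      generalize c.2 = L at a1
      induction L with
      | nil => rfl
      | cons r L ih => exact congrArg (cor D r l + ·) (ih fun r hr => a1 r (List.mem_cons_of_mem _ hr))
  · simp only [← e, sum_pr] at h8
    exact absurd (Int.emod_eq_zero_of_dvd (dvd_sum fun l _ => (Int.dvd_of_emod_eq_zero (h5 u hu l.1 l.2)).mul_left _)) h8
  · exact .inr ⟨h8, fun l => by rw [e, ee]; omega⟩

variable [IsAlgClosed k] (hA : A.SC) (hF : A.HasField) (p : ℕ) [Fact p.Prime] [CharP k p]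
  (hk : ∀ t : k, ∃ n, n ≠ 0 ∧ t ^ p ^ n = t) (hp : Odd p) (he : ∀ r, 2 ≤ Φ.e r) {τ θ v C U d z}
  (hτ : ∀ r, (Φ.τ r : ℕ) = τ r) (h : alcOK D τ θ v C U d z = true) (hz : z = true → commutator G = ⊤)
include μ hA hF hk hp he hτ h hz

theorem mem_sq {x : G} (hx : x ^ 2 = 1) : x ∈ Sq x := by
  have h1 : μ.ι x ^ 2 = 1 := by rw [← map_pow, hx, map_one]
  obtain ⟨g, hg⟩ := Cov.conj_H hA hF p hk (Nat.coprime_two_left.2 hp) h1
  obtain ⟨ζ, b, n, h2, h3, h4, h6⟩ := hA.exists_alcove hg two_ne_zero (by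
    rw [← inv_inv g, inv_inv g⁻¹, conj_pow, h1]; simp)
  replace h3 : (g * n)⁻¹ * μ.ι x * (g * n) = A.T (expY ζ b) := by rw [← h3]; group
  rcases (Units.inv_eq_self_iff ζ).1 (inv_eq_of_mul_eq_one_right (by rw [← h2, sq])) with rfl | rfl
  · rw [expY_one, map_one, mul_assoc, inv_mul_eq_one, eq_comm, mul_eq_right, map_eq_one_iff _ μ.inj] at h3
    exact h3 ▸ one_mem _
  rcases alc_spec h h4 h6 with ⟨L, a1, a2⟩ | ⟨a1, a2⟩
  · obtain ⟨y, e, hy⟩ := sq_T μ he (fun r hr => ⟨Fin.ext ((hτ r).trans (a1 r hr).1), (a1 r hr).2⟩) a2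
    obtain ⟨c, rfl⟩ := isConj_iff.1 (μ.isConj hA (g' := 1) (h3 ▸ A.torus_mem _) (by rw [h3, e]; simp)).symm
    exact map_mem (MulAut.conj c).toMonoidHom hy
  · have a3 : A.θ (μ.ι x) = 1 := by
      have := Cov.θ_T_eq_one (A := A) (c := expY (-1) b) (mem_centT.2 fun j => by
        obtain ⟨c, hc⟩ := a2 j
        rw [← rootChar_apply, ← rs_sp_val, rootChar_expY, hc, zpow_mul]; simp)
      rwa [← h3, map_mul, map_mul, map_inv, mul_assoc, inv_mul_eq_one, eq_comm, mul_eq_right] at this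
    exact commutator_le_Sq (H := ⊤) (fun y _ => μ.inj (by rw [map_mul, map_mul, A.comm_of_ker a3]))
      ((hz a1).ge (Subgroup.mem_top x))

theorem kf_model {F : Type*} [Group F] (π : G →* F) (hπ : Function.Surjective π) {m : ℕ} (hm : Odd m)
    (hd : H64.HasInv D m) (hK : ∀ z, π z = 1 → A.θ (μ.ι z) = 1) : KF F := kf_of_all fun v hv => by
  obtain ⟨x, rfl⟩ := hπ v
  have h1 : π x ^ 2 = 1 := by rw [← hv, pow_orderOf_eq_one]
  obtain ⟨c, hc, e⟩ := A.exists_centT (hK (x ^ 2) (by rw [map_pow, h1]))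
  have h2 := map_mem π (mem_sq μ hA hF p hk hp he hτ h hz (x := x ^ m) (μ.inj (by
    rw [← pow_mul, mul_comm, pow_mul, map_pow, ← e, ← map_pow, centT_pow hd hc, map_one, map_one])))
  obtain ⟨j, rfl⟩ := hm
  rwa [map_pow, pow_succ, pow_mul, h1, one_pow, one_mul] at h2

end Cfsg.Agent.TZ.Ex
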