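import Cfsg.Agent.TZ.Exc1
import Cfsg.Agent.INVK.Exc1

/-! Project TZ, exceptional groups: the type E₇, where involutions need not lift to involutions. -/

set_option autoImplicit false

namespace Cfsg.Agent.TZ.Ex

open Cfsg.Lie Cfsg.Lie.ChevalleyDatum H37 H38 H39 Finset Chev

universe u

variable {D : ChevalleyDatum} [Chev D] {hD : IsChev D} {k : Type u} [Field k] {Γ : Type*} [Group Γ] {A : Cov hD k Γ}

theorem isPGroup_closure {S : Set Γ} (h : ∀ a ∈ S, ∀ b ∈ S, a * b = b * a) (h4 : ∀ a ∈ S, a ^ 4 = 1) :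
    IsPGroup 2 (Subgroup.closure S) := fun ⟨g, hg⟩ => ⟨2, Subtype.ext (by
  have h1 : Subgroup.closure S ≤ Subgroup.centralizer (Subgroup.closure S : Set Γ) :=
    (Subgroup.closure_le _).2 fun a ha b hb => Subgroup.mem_centralizer_singleton_iff.1
      ((Subgroup.closure_le _).2 (fun c hc => Subgroup.mem_centralizer_singleton_iff.2 (h c hc a ha)) hb)
  change g ^ 4 = 1
  induction hg using Subgroup.closure_induction with
  | mem a ha => exact h4 a ha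
  | one => exact one_pow _
  | mul a b ha hb h2 h3 => rw [Commute.mul_pow (h1 hb a ha), h2, h3, one_mul]
  | inv a _ h2 => rw [inv_pow, h2, inv_one])⟩

theorem mem_H_of {g : Γ} {ζ : kˣ} (hζ : IsPrimitiveRoot ζ 4)
    (h : ∀ c, c ^ 4 = 1 → A.θ (g * A.T c) = A.θ (A.T c * g))
    (hr : ∀ j < D.rank, ∀ r < D.nroots, (∀ i < D.rank, (D.cartan i r - D.cartan i (D.simple j)) % 4 = 0) →
      r = D.simple j) : g ∈ A.X.H := by
  obtain ⟨u, hu, n, w, hn, u', hu', rfl⟩ := A.X.exists_bruhat' (A.mem_grp g)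
  have h0 : ∀ r : Fin D.nroots, expY ζ (cv r) ^ 4 = 1 := fun r => by
    rw [← zpow_natCast, ← expY_zpow, zpow_natCast, hζ.pow_eq_one, expY_one]
  have h1 : ∀ c, c ^ 4 = 1 → A.T c * u = u * A.T c ∧ A.T c * u' = u' * A.T c ∧
      ∀ r, rootChar D (w r) c = rootChar D r c := fun c hc => by
    have a1 : A.θ (u * n * u' * A.T c * (A.T c * (u * n * u'))⁻¹) = 1 := by rw [map_mul, h c hc, map_inv, mul_inv_cancel]
    have a2 := A.comm_of_ker a1
    obtain ⟨a3, a4, a5⟩ := bruhat_conj A.faithful (A.torus_mem c) (mul_mem (A.mem_H_of_ker a1) (A.torus_mem c)) hu hn hu'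
      (by group)
    generalize u * n * u' * A.T c * (A.T c * (u * n * u'))⁻¹ = z at a2 a3 a4
    refine ⟨mul_left_cancel (a := z) (by rw [← mul_assoc, a3, ← mul_assoc, ← mul_assoc, a2]), a5, fun r => ?_⟩
    obtain ⟨a, ha, e⟩ := hn.acts.exists_conj r
    have a6 : A.T c * (n * A.X.x r 1 * n⁻¹) * (A.T c)⁻¹ = n * (A.T c * A.X.x r 1 * (A.T c)⁻¹) * n⁻¹ := by
      calc _ = z⁻¹ * (z * A.T c * n * A.X.x r 1 * (z * A.T c * n)⁻¹ * z) := by group
        _ = _ := by rw [← a2, ← a4]; group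
    rw [e, A.torus_x, A.torus_x, e] at a6
    exact Units.ext (mul_left_cancel₀ ha (by linear_combination A.faithful.x_inj _ a6))
  have h2 : ∀ T, T ∩ Psi A.X (A.T '' {c | c ^ 4 = 1}) = ∅ := fun T => Set.eq_empty_of_forall_notMem fun r hr => by
    have := (A.comm_x_iff _ r).1 (hr.2 _ ⟨_, h0 r, rfl⟩)
    rw [rootChar_expY, pr_cv, pairing_self r r.2, hζ.zpow_eq_one_iff_dvd] at this
    omega
  have h3 : A.T '' {c | c ^ 4 = 1} ⊆ A.X.H := by rintro _ ⟨c, -, rfl⟩; exact A.torus_mem c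
  have h4 := mem_US_of_comm A.faithful h3 (rs D).cl_pos hu (by rintro _ ⟨c, hc, rfl⟩; exact (h1 c hc).1)
  have h5 := mem_US_of_comm A.faithful h3 ((rs D).cl_inv hn.mem_W) hu' (by rintro _ ⟨c, hc, rfl⟩; exact (h1 c hc).2.1)
  rw [h2, A.X.US_empty, Subgroup.mem_bot] at h4 h5
  rw [h4, h5, one_mul, mul_one]
  refine RG.Rep.mem_H ((rs D).eq_one_of_pos' hn.mem_W (fun j => ?_) ▸ hn)
  rw [show w ((rs D).sp j) = (rs D).sp j from Fin.ext (hr j j.2 _ (w _).2 fun i hi => ?_)]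
  · exact (rs D).pos_sp j
  have := (h1 _ (h0 ((rs D).sp ⟨i, hi⟩))).2.2 ((rs D).sp j)
  rw [rootChar_expY, rootChar_expY, cv_sp, ← mul_inv_eq_one, ← zpow_sub, hζ.zpow_eq_one_iff_dvd] at this
  simpa [pr_apply, Pi.single_apply, rs_sp_val] using Int.emod_eq_zero_of_dvd this

theorem sq_eq_one {J : List ℕ} {B : List (List ℤ)} (hA : A.SC) {c : Fin D.rank → kˣ} (hc : A.θ (A.T c ^ 2) = 1)
    (h : ∀ j : Fin D.rank, j.1 ∈ J → ∃ t ≠ 0, A.θ (A.X.n ((rs D).sp j) t * A.T c) = A.θ (A.T c * A.X.n ((rs D).sp j) t))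
    (hJ : ∀ j ∈ J, ∃ l < D.rank, D.cartan j (D.simple l) = -1)
    (hB : ∀ i l : Fin D.rank, ∑ j : Fin D.rank, D.cartan i (D.simple j) * gl B j l = (if i = l then 2 else 0) ∧
      (i.1 ∈ J ∨ gl B i l % 2 = 0)) : A.T c ^ 2 = 1 := by
  have h0 : ∀ c, A.θ (A.T c) = 1 → ∀ j : Fin D.rank, rootChar D (D.simple j) c = 1 := fun c hc => by
    obtain ⟨c', h1, h2⟩ := A.exists_centT hc
    exact mem_centT.1 (hA h2 ▸ h1)
  have h1 := h0 _ (map_pow A.T c 2 ▸ hc)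
  have h2 : ∀ j : Fin D.rank, j.1 ∈ J → rootChar D (D.simple j) c = 1 := fun j hj => by
    obtain ⟨t, ht, e⟩ := h j hj
    obtain ⟨l, hl, e'⟩ := hJ j hj
    have := h0 (expY (rootChar D ((rs D).sp j) c) (cv ((rs D).sp j))) (by
      rw [mul_inv_eq_iff_eq_mul.1 (A.rep_conj_torus (A.rep_n _ ht) c), map_mul, map_mul, mul_left_inj, zact_refl,
        div_eq_mul_inv, map_mul, map_mul, mul_eq_left, map_inv, map_inv, inv_eq_one] at e
      exact e) ⟨l, hl⟩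
    rw [← rs_sp_val, rootChar_expY, cv_sp] at this
    simpa [pr_apply, Pi.single_apply, rs_sp_val, e'] using this
  rw [← map_pow, show c ^ 2 = 1 from funext fun l => ?_, map_one]
  have h3 : cartM D * Matrix.of (fun j l : Fin D.rank => gl B j l) = Matrix.diagonal fun _ => 2 :=
    Matrix.ext fun i l => (hB i l).1
  have h4 := zact_diagonal (fun _ => 2) c l
  rw [← h3, zact_mul, zact_apply] at h4
  refine (zpow_ofNat _ 2).symm.trans (h4.symm.trans (prod_eq_one fun j _ => ?_))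
  change rootChar D (D.simple j) c ^ gl B j l = 1
  rcases (hB j l).2 with e | e
  · rw [h2 j e, one_zpow]
  · obtain ⟨a, ha⟩ := Int.dvd_of_emod_eq_zero e
    rw [ha, zpow_mul, zpow_ofNat, ← map_pow, h1, one_zpow]

variable {Φ : A.Frob} {G : Type*} [Group G] (μ : Φ.Model G)

theorem exists_P [IsAlgClosed k] (h2 : (2 : k) ≠ 0) {J : List ℕ} {B : List (List ℤ)} (hA : A.SC)
    (h1 : ∀ c : Fin D.rank → kˣ, c ^ 4 = 1 → zact Φ.M c = c)
    (h3 : ∀ j, Φ.τ ((rs D).sp j) = (rs D).sp j ∧ 2 ≤ Φ.e ((rs D).sp j) ∨ Φ.τ ((rs D).sp j) = (rs D).neg ((rs D).sp j))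
    (hr : ∀ j < D.rank, ∀ r < D.nroots, (∀ i < D.rank, (D.cartan i r - D.cartan i (D.simple j)) % 4 = 0) →
      r = D.simple j) (hJ : ∀ j ∈ J, ∃ l < D.rank, D.cartan j (D.simple l) = -1)
    (hJ' : ∀ i ∈ J, ∀ j ∈ J, i ≠ j → D.cartan i (D.simple j) = 0 ∧ ∀ r < D.nroots, D.cartan i r % 2 = 0 →
      D.cartan j r % 2 = 0 → D.cartan i r = 0 ∨ D.cartan j r = 0)
    (hB : ∀ i l : Fin D.rank, ∑ j : Fin D.rank, D.cartan i (D.simple j) * gl B j l = (if i = l then 2 else 0) ∧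
      (i.1 ∈ J ∨ gl B i l % 2 = 0)) : ∃ P : Subgroup G, IsPGroup 2 P ∧ ∀ x, A.θ (μ.ι (x ^ 2)) = 1 →
        (∀ y ∈ P, A.θ (μ.ι (y * x)) = A.θ (μ.ι (x * y))) → x ^ 2 = 1 := by
  choose t ht e using fun j => fix_n Φ (h3 j)
  let K : Subgroup Γ := (powMonoidHom 4 : (Fin D.rank → kˣ) →* _).ker.map A.T
  let S : Set Γ := (fun j => A.X.n ((rs D).sp j) (t j)) '' {j | j.1 ∈ J}
  have a1 : IsPGroup 2 (Subgroup.closure S) := by
    refine isPGroup_closure ?_ ?_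
    · rintro _ ⟨i, hi, rfl⟩ _ ⟨j, hj, rfl⟩
      by_cases hij : i = j
      · rw [hij]
      obtain ⟨b1, b2⟩ := hJ' i hi j hj (Fin.val_injective.ne hij)
      have b3 := (hJ' j hj i hi (Fin.val_injective.ne hij).symm).1
      have b4 : (rs D).A i ((rs D).sp j) = 0 := (rs_A i _).trans b1
      refine INVK.Ex.SO.comm A.X.toRG0 (a := (rs D).sp i) (b := (rs D).sp j) ⟨fun e => ?_, fun e => ?_,
        fun r x y hx hy e => ?_⟩ (A.X.n_mem_US (by simp) (by simp) _) (A.X.n_mem_US (by simp) (by simp) _)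
      · rw [e, RS.A_sp_self] at b4; omega
      · rw [e, RS.A_neg, RS.A_sp_self] at b4; omega
      · have c1 := (rs D).A_of_cf e i
        have c2 := (rs D).A_of_cf e j
        rw [RS.A_sp_self, b4, rs_A] at c1
        rw [RS.A_sp_self, rs_A j ((rs D).sp i), rs_sp_val, b3, rs_A] at c2
        have := b2 r r.2 (by omega) (by omega)
        omega
    · rintro _ ⟨i, -, rfl⟩
      rw [show 4 = 2 * 2 from rfl, pow_mul, sq, sq, n_sq A _ (ht i), ← map_mul, ← expY_add, ← two_smul ℤ, expY_smul]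
      simp [expY_one]
  have a2 : IsPGroup 2 K := IsPGroup.map (fun c => ⟨2, Subtype.ext c.2⟩) _
  have a3 : Subgroup.closure S ≤ Subgroup.normalizer K := (Subgroup.closure_le _).2 (by
    have b : ∀ {n w}, A.X.Rep n w → ∀ y ∈ K, n * y * n⁻¹ ∈ K := by
      rintro n w hn _ ⟨c, hc, rfl⟩
      exact ⟨_, (map_pow _ c 4).symm.trans ((congrArg _ hc).trans (map_one _)), (A.rep_conj_torus hn c).symm⟩
    rintro _ ⟨i, -, rfl⟩
    exact Subgroup.mem_normalizer_iff.2 fun y => ⟨b (A.rep_n _ (ht i)) y, fun h => by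
      simpa [mul_assoc] using b (A.rep_n ((rs D).sp i) (ht i)).inv _ h⟩)
  refine ⟨_, (a1.to_sup_of_normal_right' a2 a3).comap_of_injective μ.ι μ.inj, fun x hx h => ?_⟩
  have a4 : ∀ g ∈ Subgroup.closure S ⊔ K, Φ.σ g = g → A.θ (g * μ.ι x) = A.θ (μ.ι x * g) := fun g hg hg' => by
    obtain ⟨y, rfl⟩ := (μ.fix_iff g).1 hg'
    simpa only [map_mul] using h y hg
  have : NeZero ((4 : ℕ) : k) := ⟨by rw [show ((4 : ℕ) : k) = 2 * 2 by norm_num]; exact mul_ne_zero h2 h2⟩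
  obtain ⟨ζ, hζ⟩ := HasEnoughRootsOfUnity.exists_primitiveRoot k 4
  obtain ⟨c, hc⟩ := A.mem_H_iff.1 (mem_H_of (hζ.isUnit_unit (by decide)) (fun c hc =>
    (a4 _ (Subgroup.mem_sup_right ⟨c, hc, rfl⟩) (by rw [Φ.σ_T, h1 c hc])).symm) hr)
  rw [map_pow] at hx
  rw [← hc] at hx a4
  refine μ.inj ?_
  rw [map_pow, ← hc, map_one]
  exact sq_eq_one hA hx (fun j hj => ⟨t j, ht j,
    a4 _ (Subgroup.mem_sup_left (Subgroup.subset_closure ⟨j, hj, rfl⟩)) (e j)⟩) hJ hB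

end Cfsg.Agent.TZ.Ex
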