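import Cfsg.Agent.H11.Simple

/-! Project TZ: a diagonal normal form of quadratic forms over finite fields of odd order. -/

set_option autoImplicit false

namespace Cfsg.Agent.TZ.PO

open Cfsg H11 QuadraticMap Finset

variable {F : Type*} [Field F] {ι : Type} [Fintype ι] [DecidableEq ι]
variable {V : Type*} [AddCommGroup V] [Module F V] {Q : QuadraticForm F V}

variable (Q) in
/-- an orthogonal family of nonsingular vectors -/
def Orth (b : ι → V) : Prop := (∀ i j, i ≠ j → polar Q (b i) (b j) = 0) ∧ ∀ i, Q (b i) ≠ 0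

theorem Orth.step [Finite F] (h2 : (2 : F) ≠ 0) {b : ι → V} (h : Orth Q b) {i j : ι} (hij : i ≠ j) {c : F}
    (hc : c ≠ 0) : ∃ b', Orth Q b' ∧ Q (b' i) = c ∧ (∀ k, k ≠ i → k ≠ j → b' k = b k) ∧
      ∏ k, Q (b' k) = c * c * ∏ k, Q (b k) := by
  obtain ⟨x, y, e⟩ := exists_binary_eq h2 (h.2 i) (h.2 j) c
  let u := x • b i + y • b j
  let w := (Q (b i) * x) • b j - (Q (b j) * y) • b i
  have h0 := h.1 i j hij
  have h1 := h.1 j i hij.symm
  have hu : Q u = c := by simp only [u]; qsimp; rw [h0]; linear_combination e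
  have hw : Q w = Q (b i) * Q (b j) * c := by simp only [w]; qsimp; rw [h1]; linear_combination Q (b i) * Q (b j) * e
  have huw : polar Q u w = 0 := by simp only [u, w]; qsimp; rw [h0, h1]; ring
  have a1 : ∀ k, k ≠ i → k ≠ j → polar Q u (b k) = 0 ∧ polar Q w (b k) = 0 := fun k h3 h4 => by
    simp only [u, w]; qsimp; rw [h.1 i k h3.symm, h.1 j k h4.symm]; simp
  refine ⟨fun k => if k = i then u else if k = j then w else b k, ⟨fun k l hkl => ?_, fun k => ?_⟩, by simp [hu],
    fun k h3 h4 => by simp [h3, h4], ?_⟩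
  · beta_reduce
    split_ifs with b1 b2 b3 b4 b5 b6 b7 b8
    · exact absurd (b1.trans b2.symm) hkl
    · exact huw
    · exact (a1 l b2 b3).1
    · exact (polar_comm _ _ _).trans huw
    · exact absurd (b4.trans b6.symm) hkl
    · exact (a1 l b5 b6).2
    · exact (polar_comm _ _ _).trans (a1 k b1 b4).1
    · exact (polar_comm _ _ _).trans (a1 k b1 b4).2
    · exact h.1 k l hkl
  · beta_reduce
    split_ifs
    exacts [hu ▸ hc, hw ▸ mul_ne_zero (mul_ne_zero (h.2 i) (h.2 j)) hc, h.2 k]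
  · have m : j ∈ univ.erase i := mem_erase.2 ⟨hij.symm, mem_univ j⟩
    rw [← mul_prod_erase _ _ (mem_univ i), ← mul_prod_erase _ _ m, ← mul_prod_erase _ (fun k => Q (b k)) (mem_univ i),
      ← mul_prod_erase _ (fun k => Q (b k)) m, prod_congr rfl (g := fun k => Q (b k)) fun k hk => by
        simp only [(mem_erase.1 (mem_erase.1 hk).2).1, (mem_erase.1 hk).1, if_false]]
    simp only [if_true, hij.symm, if_false, hu, hw]
    ring

theorem Orth.steps [Finite F] (h2 : (2 : F) ≠ 0) {b : ι → V} (h : Orth Q b) {j : ι} {c : F} (hc : c ≠ 0)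
    (S : Finset ι) (hS : j ∉ S) : ∃ b' s, Orth Q b' ∧ (∀ i ∈ S, Q (b' i) = c) ∧ ∏ k, Q (b' k) = s * s * ∏ k, Q (b k) := by
  induction S using Finset.induction_on with
  | empty => exact ⟨b, 1, h, by simp, by simp⟩
  | insert i S hi ih =>
    obtain ⟨b₁, s, h3, h4, h5⟩ := ih fun e => hS (mem_insert_of_mem e)
    obtain ⟨b₂, h6, h7, h8, h9⟩ := h3.step h2 (i := i) (j := j) (by rintro rfl; exact hS (mem_insert_self _ _)) hc
    refine ⟨b₂, c * s, h6, fun k hk => ?_, by rw [h9, h5]; ring⟩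
    rcases mem_insert.1 hk with rfl | hk'
    · exact h7
    · rw [h8 k (by rintro rfl; exact hi hk') (by rintro rfl; exact hS hk), h4 k hk']

theorem Orth.nf [Finite F] (h2 : (2 : F) ≠ 0) {b : ι → V} (h : Orth Q b) (j : ι) :
    ∃ b' c, Orth Q b' ∧ (∀ i, i ≠ j → Q (b' i) = c) ∧ (Odd (Fintype.card ι) → Q (b' j) = c) := by
  have hc : ∏ k, Q (b k) ≠ 0 := prod_ne_zero_iff.2 fun k _ => h.2 k
  obtain ⟨b₁, s, h3, h4, h5⟩ := h.steps h2 hc (univ.erase j) (notMem_erase j _)
  generalize ∏ k, Q (b k) = c at *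
  by_cases ho : Odd (Fintype.card ι)
  swap
  · exact ⟨b₁, c, h3, fun i hi => h4 i (by simp [hi]), fun e => absurd e ho⟩
  obtain ⟨m, hm⟩ := ho
  rw [← mul_prod_erase _ _ (mem_univ j), prod_congr rfl h4, prod_const, card_erase_of_mem (mem_univ j), card_univ, hm,
    Nat.add_sub_cancel] at h5
  have hs : s ≠ 0 := by
    rintro rfl
    exact mul_ne_zero (h3.2 j) (pow_ne_zero _ hc) (by rw [h5]; ring)
  have ht : ∀ k, (if k = j then c ^ m / s else 1) ≠ 0 := fun k => by
    split_ifs
    exacts [div_ne_zero (pow_ne_zero _ hc) hs, one_ne_zero]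
  refine ⟨fun k => (if k = j then c ^ m / s else 1) • b₁ k, c, ⟨fun k l hkl => ?_, fun k => ?_⟩, fun i hi => ?_, fun _ => ?_⟩
  · qsimp; rw [h3.1 k l hkl]; simp
  · qsimp; exact mul_ne_zero (mul_ne_zero (ht k) (ht k)) (h3.2 k)
  · simp only [hi, if_false, one_smul, h4 i (by simp [hi])]
  · qsimp; rw [if_pos trivial]; field_simp; linear_combination h5

theorem exists_nf [Finite F] [FiniteDimensional F V] (h2 : (2 : F) ≠ 0) (h : ND Q) (j : Fin (Module.finrank F V)) :
    ∃ (a : Fin (Module.finrank F V) → F) (c : F) (e : V ≃ₗ[F] (Fin (Module.finrank F V) → F)),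
      (∀ x, weightedSumSquares F a (e x) = Q x) ∧ (∀ i, a i ≠ 0) ∧ (∀ i, i ≠ j → a i = c) ∧
        (Odd (Module.finrank F V) → a j = c) := by
  have := invertibleOfNonzero h2
  have : Nonempty (Fin (Module.finrank F V)) := ⟨j⟩
  obtain ⟨b, hb⟩ := LinearMap.BilinForm.exists_orthogonal_basis (B := polarBilin Q) ⟨fun x y => polar_comm Q x y⟩
  have h0 : Orth Q b := ⟨fun i j hij => hb hij, fun i hi => b.ne_zero i (h _ fun y => by
    rw [← b.sum_repr y, ← polarBilin_apply_apply, map_sum]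
    refine sum_eq_zero fun k _ => ?_
    rw [map_smul, polarBilin_apply_apply]
    by_cases hik : i = k
    · rw [← hik, polar_self', hi]; simp
    · rw [show polar Q (b i) (b k) = 0 from hb hik, smul_zero])⟩
  obtain ⟨b', c, h3, h4, h5⟩ := h0.nf h2 j
  have h6 : LinearIndependent F b' := LinearMap.linearIndependent_of_isOrthoᵢ (B := polarBilin Q)
    (fun i j hij => h3.1 i j hij) fun i => by
      rw [polarBilin_apply_apply, polar_self']; exact mul_ne_zero h2 (h3.2 i)
  let v := basisOfLinearIndependentOfCardEqFinrank h6 (Fintype.card_fin _)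
  have hv : ∀ i, v i = b' i := fun i => by simp [v]
  refine ⟨fun i => Q (b' i), c, v.equivFun, fun x => ?_, h3.2, h4, fun e => h5 (by simpa using e)⟩
  have := basisRepr_eq_of_iIsOrtho Q v fun i j hij => by
    rw [Function.onFun, associated_isOrtho, isOrtho_polarBilin.symm, hv, hv]; exact h3.1 i j hij
  simp only [hv] at this
  rw [← this, basisRepr, QuadraticMap.comp_apply]
  simp

end Cfsg.Agent.TZ.PO
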